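import Mathlib

/-!
Jordan's class equation argument in abstract form: a finite group with an invariant family of
large subgroups whose blown-up sets are disjoint, all other centralizers being small.
-/

set_option autoImplicit false

namespace Cfsg.Agent.Block.JordanModular

open scoped Pointwise

/-- Orbit sums of an invariant weight: if each stabilizer order divides `L` times the weight,
the group order divides `L` times the total weight. -/
theorem card_dvd_mul_sum {Q α : Type*} [Group Q] [Finite Q] [MulAction Q α] [Fintype α] (c : α → ℕ)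
    (hinv : ∀ (g : Q) a, c (g • a) = c a) (L : ℕ)
    (h : ∀ a, c a ≠ 0 → Nat.card (MulAction.stabilizer Q a) ∣ L * c a) :
    Nat.card Q ∣ L * ∑ a, c a := by
  classical
  rw [Finset.mul_sum, ← Finset.sum_fiberwise Finset.univ
    (fun a => (Quotient.mk (MulAction.orbitRel Q α) a)) (fun a => L * c a)]
  refine Finset.dvd_sum fun ω _ => ?_
  induction ω using Quotient.inductionOn with
  | h a =>
  have hmem : ∀ b, b ∈ Finset.univ.filter
      (fun b => Quotient.mk (MulAction.orbitRel Q α) b = Quotient.mk _ a) ↔ b ∈ MulAction.orbit Q a := by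
    intro b
    rw [Finset.mem_filter, Quotient.eq, MulAction.orbitRel_apply]
    simp
  have hsum : ∀ b ∈ Finset.univ.filter
      (fun b => Quotient.mk (MulAction.orbitRel Q α) b = Quotient.mk _ a), L * c b = L * c a := by
    intro b hb
    obtain ⟨g, rfl⟩ := MulAction.mem_orbit_iff.mp ((hmem b).mp hb)
    rw [hinv]
  rw [Finset.sum_congr rfl hsum, Finset.sum_const, smul_eq_mul]
  have hcard : (Finset.univ.filter
      (fun b => Quotient.mk (MulAction.orbitRel Q α) b = Quotient.mk _ a)).card =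
      Nat.card (MulAction.orbit Q a) := by
    rw [← Nat.card_eq_finsetCard]
    exact Nat.card_congr (Equiv.subtypeEquivRight hmem)
  have horb : Nat.card Q = Nat.card (MulAction.orbit Q a) * Nat.card (MulAction.stabilizer Q a) := by
    rw [← Nat.card_prod, Nat.card_congr (MulAction.orbitProdStabilizerEquivGroup Q a)]
  rw [hcard, horb]
  by_cases hc : c a = 0
  · simp [hc]
  · exact Nat.mul_dvd_mul_left _ (h a hc)

/-- A set invariant under right translations by `T` has order divisible by `|T|`. -/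
theorem card_dvd_of_mul_mem {Q : Type*} [Group Q] (T : Subgroup Q) (X : Set Q)
    (h : ∀ x ∈ X, ∀ t ∈ T, x * t ∈ X) : Nat.card T ∣ Nat.card X := by
  have e : X = QuotientGroup.mk ⁻¹' (QuotientGroup.mk (s := T) '' X) := by
    ext y
    constructor
    · exact fun hy => ⟨y, hy, rfl⟩
    · rintro ⟨x, hx, hxy⟩
      have h1 := h x hx _ (QuotientGroup.eq.mp hxy)
      rwa [mul_inv_cancel_left] at h1
  rw [e, QuotientGroup.card_preimage_mk]
  exact dvd_mul_right _ _

/-- The stabilizer of a subgroup under conjugation is its normalizer. -/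
theorem card_stabilizer_conjAct {Q : Type*} [Group Q] (T : Subgroup Q) :
    Nat.card (MulAction.stabilizer (ConjAct Q) T) = Nat.card (Subgroup.normalizer (T : Set Q)) :=
  Nat.card_congr
    { toFun := fun g => ⟨ConjAct.ofConjAct g.1,
        Subgroup.conjAct_pointwise_smul_iff.mp (by simpa using MulAction.mem_stabilizer_iff.mp g.2)⟩
      invFun := fun g => ⟨ConjAct.toConjAct g.1,
        MulAction.mem_stabilizer_iff.mpr (Subgroup.conjAct_pointwise_smul_iff.mpr g.2)⟩
      left_inv := fun g => by simp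
      right_inv := fun g => by simp }

variable {Q : Type*} [Group Q] [Finite Q]

/-- Sets indexed by a finite family, pairwise disjoint and missing `1`. -/
theorem sum_card_lt (𝒯 : Finset (Subgroup Q)) (S : Subgroup Q → Set Q)
    (hone : ∀ T ∈ 𝒯, (1 : Q) ∉ S T)
    (hdisj : ∀ T ∈ 𝒯, ∀ T' ∈ 𝒯, ∀ y, y ∈ S T → y ∈ S T' → T = T') :
    ∑ T ∈ 𝒯, Nat.card (S T) < Nat.card Q := by
  classical
  have _ := Fintype.ofFinite Q
  have h1 : (𝒯.biUnion fun T => (S T).toFinset) ⊂ (Finset.univ : Finset Q) := by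
    rw [Finset.ssubset_iff_of_subset (Finset.subset_univ _)]
    refine ⟨1, Finset.mem_univ _, fun h => ?_⟩
    obtain ⟨T, hT, hT1⟩ := Finset.mem_biUnion.mp h
    exact hone T hT (Set.mem_toFinset.mp hT1)
  have h2 := Finset.card_lt_card h1
  rw [Finset.card_biUnion] at h2
  · simpa [Nat.card_eq_fintype_card, Set.toFinset_card] using h2
  · intro T hT T' hT' hne
    rw [Function.onFun, Finset.disjoint_left]
    exact fun y hy hy' => hne (hdisj T hT T' hT' y (Set.mem_toFinset.mp hy) (Set.mem_toFinset.mp hy'))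

/-- The counting step: either the group is small or one member of the family is normal. -/
theorem small_or_normal (𝒯 : Finset (Subgroup Q)) (S : Subgroup Q → Set Q) (L : ℕ) (hL : 0 < L)
    (hconj : ∀ (g : ConjAct Q), ∀ T ∈ 𝒯, g • T ∈ 𝒯)
    (hequiv : ∀ (g : ConjAct Q) T y, y ∈ S T → g • y ∈ S (g • T))
    (hone : ∀ T ∈ 𝒯, (1 : Q) ∉ S T)
    (hsub : ∀ T ∈ 𝒯, ∀ t ∈ T, t = 1 ∨ t ∈ S T)
    (hcoset : ∀ T ∈ 𝒯, ∀ y ∈ S T, ∀ t ∈ T, y * t = 1 ∨ y * t ∈ S T)
    (hdisj : ∀ T ∈ 𝒯, ∀ T' ∈ 𝒯, ∀ y, y ∈ S T → y ∈ S T' → T = T')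
    (hsmall : ∀ y : Q, y ≠ 1 → (∀ T ∈ 𝒯, y ∉ S T) →
      Nat.card (Subgroup.centralizer ({y} : Set Q)) ∣ L)
    (hN : ∀ T ∈ 𝒯, Nat.card (Subgroup.normalizer (T : Set Q)) ∣ L * Nat.card T)
    (hbig : ∀ T ∈ 𝒯, L < Nat.card T) :
    Nat.card Q ≤ L ∨ ∃ T ∈ 𝒯, T.Normal := by
  classical
  have _ := Fintype.ofFinite Q
  have _ := Fintype.ofFinite (Subgroup Q)
  let U : Finset Q := 𝒯.biUnion fun T => (S T).toFinset
  have hU : ∀ y, y ∈ U ↔ ∃ T ∈ 𝒯, y ∈ S T := by simp [U]
  let Sm : Finset Q := Finset.univ \ insert 1 U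
  have h1U : (1 : Q) ∉ U := by
    rw [hU]; rintro ⟨T, hT, h1⟩; exact hone T hT h1
  have hUcard : U.card = ∑ T ∈ 𝒯, Nat.card (S T) := by
    rw [Finset.card_biUnion]
    · simp [Nat.card_eq_fintype_card, Set.toFinset_card]
    · intro T hT T' hT' hne
      rw [Function.onFun, Finset.disjoint_left]
      exact fun y hy hy' =>
        hne (hdisj T hT T' hT' y (Set.mem_toFinset.mp hy) (Set.mem_toFinset.mp hy'))
  have htot : Nat.card Q = Sm.card + 1 + U.card := by
    have h := Finset.card_sdiff_add_card_eq_card (Finset.subset_univ (insert (1 : Q) U))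
    rw [Finset.card_insert_of_notMem h1U, Finset.card_univ, ← Nat.card_eq_fintype_card] at h
    have e : Sm.card = (Finset.univ \ insert 1 U).card := rfl
    omega
  -- the weight of a member of the family
  let c : Subgroup Q → ℕ := fun T => if T ∈ 𝒯 then Nat.card (S T) + 1 else 0
  have hmemT : ∀ (g : ConjAct Q) T, g • T ∈ 𝒯 ↔ T ∈ 𝒯 :=
    fun g T => ⟨fun h => by simpa using hconj g⁻¹ _ h, hconj g T⟩
  have hScard : ∀ (g : ConjAct Q) T, Nat.card (S (g • T)) = Nat.card (S T) := by
    intro g T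
    refine Nat.card_congr
      { toFun := fun y => ⟨g⁻¹ • y.1, by simpa using hequiv g⁻¹ _ _ y.2⟩
        invFun := fun y => ⟨g • y.1, hequiv g _ _ y.2⟩
        left_inv := fun y => by simp
        right_inv := fun y => by simp }
  have hdvdT : Nat.card Q ∣ L * ∑ T, c T := by
    have h := card_dvd_mul_sum (Q := ConjAct Q) c (fun g T => by
      simp only [c, hmemT, hScard]) L (fun T hT => by
      have hT' : T ∈ 𝒯 := by by_contra h; simp [c, h] at hT
      rw [card_stabilizer_conjAct]
      refine (hN T hT').trans (Nat.mul_dvd_mul_left _ ?_)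
      simp only [c, if_pos hT']
      have hX : ∀ x ∈ insert (1 : Q) (S T), ∀ t ∈ T, x * t ∈ insert (1 : Q) (S T) := by
        rintro x (rfl | hx) t ht
        · rw [one_mul]; exact hsub T hT' t ht
        · exact hcoset T hT' x hx t ht
      have h := card_dvd_of_mul_mem T _ hX
      rwa [Nat.card_coe_set_eq, Set.ncard_insert_of_notMem (hone T hT') (Set.toFinite _),
        ← Nat.card_coe_set_eq] at h)
    rwa [Nat.card_congr ConjAct.ofConjAct.toEquiv] at h
  have hsumc : ∑ T, c T = U.card + 𝒯.card := by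
    simp only [c, Finset.sum_ite_mem, Finset.univ_inter, hUcard, Finset.sum_add_distrib,
      Finset.sum_const, smul_eq_mul, mul_one]
  have hdvdSm : Nat.card Q ∣ L * Sm.card := by
    have hinv : ∀ (g : ConjAct Q) y, g • y ∈ Sm ↔ y ∈ Sm := by
      intro g y
      have key : ∀ (g : ConjAct Q) y, y ∈ U → g • y ∈ U := by
        intro g y
        simp only [hU]
        rintro ⟨T, hT, hy⟩
        exact ⟨g • T, hconj g T hT, hequiv g T y hy⟩
      have h1 : g • y = 1 ↔ y = 1 := by
        conv_lhs => rw [← smul_one g]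
        exact smul_left_cancel_iff g
      have h2 : g • y ∈ U ↔ y ∈ U := ⟨fun h => by simpa using key g⁻¹ _ h, key g y⟩
      simp [Sm, h1, h2]
    have h := card_dvd_mul_sum (Q := ConjAct Q) (fun y : Q => if y ∈ Sm then 1 else 0)
      (fun g y => by simp only [hinv]) L (fun y hy => by
        have hy' : y ∈ Sm := by by_contra h; simp [h] at hy
        simp only [if_pos hy', mul_one]
        rw [Finset.mem_sdiff, Finset.mem_insert, hU] at hy'
        push Not at hy'
        have := hsmall y hy'.2.1 (fun T hT => hy'.2.2 T hT)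
        rw [ConjAct.stabilizer_eq_centralizer]
        exact this)
    simpa [Nat.card_congr ConjAct.ofConjAct.toEquiv] using h
  rcases Nat.eq_zero_or_pos 𝒯.card with hr | hr
  · left
    rw [hsumc, hr, add_zero] at hdvdT
    refine Nat.le_of_dvd hL ?_
    have h3 : Nat.card Q ∣ L * Sm.card + L * U.card + L := by
      rw [show L * Sm.card + L * U.card + L = Nat.card Q * L by rw [htot]; ring]
      exact dvd_mul_right _ _
    exact (Nat.dvd_add_right (dvd_add hdvdSm hdvdT)).mp h3
  right
  obtain ⟨r, hr'⟩ := Nat.exists_eq_add_of_lt hr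
  rw [Nat.zero_add] at hr'
  have hdvdr : Nat.card Q ∣ L * r := by
    have h3 : Nat.card Q ∣ L * Sm.card + L * (U.card + 𝒯.card) := by
      rw [← hsumc]; exact dvd_add hdvdSm hdvdT
    rw [show L * Sm.card + L * (U.card + 𝒯.card) = Nat.card Q * L + L * r by rw [htot, hr']; ring]
      at h3
    exact (Nat.dvd_add_right (dvd_mul_right _ _)).mp h3
  have hlt : L * (r + 1) < Nat.card Q := by
    refine lt_of_le_of_lt ?_ (sum_card_lt 𝒯 S hone hdisj)
    rw [← hr', mul_comm, ← smul_eq_mul, ← Finset.sum_const]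
    refine Finset.sum_le_sum fun T hT => ?_
    have hsubset : (T : Set Q) ⊆ insert (1 : Q) (S T) := fun t ht => hsub T hT t ht
    have h4 := Set.ncard_le_ncard hsubset (Set.toFinite _)
    rw [Set.ncard_insert_of_notMem (hone T hT) (Set.toFinite _), ← Nat.card_coe_set_eq,
      ← Nat.card_coe_set_eq] at h4
    have := hbig T hT
    change Nat.card T ≤ _ at h4
    omega
  have hr0 : L * r = 0 := Nat.eq_zero_of_dvd_of_lt hdvdr (lt_of_le_of_lt (by nlinarith) hlt)
  have hr00 : r = 0 := by simpa [hL.ne'] using hr0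
  obtain ⟨T, hT⟩ := Finset.card_eq_one.mp (show 𝒯.card = 1 by omega)
  refine ⟨T, by simp [hT], ⟨fun x hx g => ?_⟩⟩
  have h5 := hconj (ConjAct.toConjAct g) T (by simp [hT])
  rw [hT, Finset.mem_singleton] at h5
  have h6 : ConjAct.toConjAct g • x ∈ ConjAct.toConjAct g • T := Subgroup.smul_mem_pointwise_smul _ _ _ hx
  rwa [h5, ConjAct.toConjAct_smul] at h6

/-- Subgroups meeting pairwise trivially with bounded normalizer index have few distinct orders. -/
theorem card_orders_le (𝒯 : Finset (Subgroup Q)) (W : ℕ)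
    (hconj : ∀ (g : ConjAct Q), ∀ T ∈ 𝒯, g • T ∈ 𝒯)
    (hTI : ∀ T ∈ 𝒯, ∀ T' ∈ 𝒯, ∀ y, y ≠ 1 → y ∈ T → y ∈ T' → T = T')
    (hN : ∀ T ∈ 𝒯, Nat.card (Subgroup.normalizer (T : Set Q)) ≤ W * Nat.card T)
    (h2 : ∀ T ∈ 𝒯, 2 ≤ Nat.card T) :
    (𝒯.image fun T : Subgroup Q => Nat.card T).card ≤ 2 * W := by
  classical
  have _ := Fintype.ofFinite Q
  have _ := Fintype.ofFinite (Subgroup Q)
  have hlt : ∑ T ∈ 𝒯, (Nat.card T - 1) < Nat.card Q := by
    have h := sum_card_lt 𝒯 (fun T => (T : Set Q) \ {1}) (by simp)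
      (fun T hT T' hT' y hy hy' => hTI T hT T' hT' y hy.2 hy.1 hy'.1)
    refine lt_of_le_of_lt (le_of_eq ?_) h
    refine Finset.sum_congr rfl fun T _ => ?_
    rw [Nat.card_coe_set_eq, Set.ncard_diff_singleton_of_mem T.one_mem, ← Nat.card_coe_set_eq]
    rfl
  have key : ∀ s ∈ 𝒯.image (fun T : Subgroup Q => Nat.card T),
      Nat.card Q ≤ 2 * W * ∑ T ∈ 𝒯.filter (fun T : Subgroup Q => Nat.card T = s), (Nat.card T - 1) := by
    intro s hs
    obtain ⟨T, hT, rfl⟩ := Finset.mem_image.mp hs
    have horb : Nat.card Q = Nat.card (MulAction.orbit (ConjAct Q) T) *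
        Nat.card (Subgroup.normalizer (T : Set Q)) := by
      rw [← card_stabilizer_conjAct, ← Nat.card_prod,
        Nat.card_congr (MulAction.orbitProdStabilizerEquivGroup (ConjAct Q) T),
        Nat.card_congr ConjAct.ofConjAct.toEquiv]
    have hle : Nat.card (MulAction.orbit (ConjAct Q) T) ≤
        (𝒯.filter (fun T' : Subgroup Q => Nat.card T' = Nat.card T)).card := by
      rw [Nat.card_coe_set_eq, ← Set.ncard_coe_finset]
      refine Set.ncard_le_ncard ?_ (Finset.finite_toSet _)
      rintro _ ⟨g, rfl⟩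
      rw [Finset.mem_coe, Finset.mem_filter]
      exact ⟨hconj g T hT, (Nat.card_congr (Subgroup.equivSMul g T).toEquiv).symm⟩
    rw [Finset.sum_congr rfl (fun T' hT' => by rw [(Finset.mem_filter.mp hT').2] :
      ∀ T' ∈ 𝒯.filter (fun T' : Subgroup Q => Nat.card T' = Nat.card T), Nat.card T' - 1 = Nat.card T - 1),
      Finset.sum_const, smul_eq_mul, horb]
    have h1 := hN T hT
    have h3 := h2 T hT
    calc Nat.card (MulAction.orbit (ConjAct Q) T) * Nat.card (Subgroup.normalizer (T : Set Q))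
        ≤ (𝒯.filter (fun T' : Subgroup Q => Nat.card T' = Nat.card T)).card * (W * (2 * (Nat.card T - 1))) :=
          Nat.mul_le_mul hle (h1.trans (Nat.mul_le_mul_left _ (by omega)))
      _ = _ := by ring
  have h4 := Finset.sum_le_sum key
  rw [Finset.sum_const, smul_eq_mul, ← Finset.mul_sum] at h4
  have h6 : ∑ s ∈ 𝒯.image (fun T : Subgroup Q => Nat.card T),
      ∑ T ∈ 𝒯.filter (fun T : Subgroup Q => Nat.card T = s), (Nat.card T - 1) =
      ∑ T ∈ 𝒯, (Nat.card T - 1) :=
    Finset.sum_fiberwise_of_maps_to (fun T hT => Finset.mem_image_of_mem _ hT) _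
  rw [h6] at h4
  by_contra hW
  have h5 : (2 * W + 1) * Nat.card Q ≤ 2 * W * Nat.card Q :=
    (Nat.mul_le_mul_right _ (by omega)).trans (h4.trans (Nat.mul_le_mul_left _ hlt.le))
  have := Nat.card_pos (α := Q)
  nlinarith

end Cfsg.Agent.Block.JordanModular
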