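import Cfsg.Agent.Lib.Block.JordanModular.Tori
import Cfsg.Agent.Lib.Grp.CyclicShift

/-!
The linear algebra behind Jordan's argument in characteristic `p`.
-/

set_option autoImplicit false

namespace Cfsg.Agent.Block.JordanModular

open scoped Pointwise
open Module

/-- A bound from a map whose fibres lie in left cosets. -/
theorem card_le_of_fibers {G ι : Type*} [Group G] [Finite G] [Finite ι] (X : Set G) (f : X → ι)
    (C : Subgroup G) (h : ∀ x y : X, f x = f y → (y : G)⁻¹ * x ∈ C) :
    Nat.card X ≤ Nat.card ι * Nat.card C := by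
  classical
  rcases isEmpty_or_nonempty X with hX | hX
  · simp
  rw [← Nat.card_prod]
  refine Nat.card_le_card_of_injective (fun x => (f x,
    (⟨((Function.invFun f (f x) : X) : G)⁻¹ * x,
      h x _ (Function.invFun_eq ⟨x, rfl⟩).symm⟩ : C))) fun x y hxy => ?_
  simp only [Prod.mk.injEq, Subtype.mk.injEq] at hxy
  rw [hxy.1] at hxy
  exact Subtype.ext (mul_left_cancel hxy.2)

section

variable {p : ℕ} [Fact p.Prime] {G : Type*} [Group G] [Finite G] {K : Type*} [Field K]
  {V : Type*} [AddCommGroup V] [Module K V] (ρ : G →* Module.End K V)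

/-- The elements acting as scalars. -/
def scalars : Subgroup G where
  carrier := {g | ∃ c : K, ρ g = c • 1}
  one_mem' := ⟨1, by simp⟩
  mul_mem' := by
    rintro a b ⟨c, hc⟩ ⟨d, hd⟩
    exact ⟨c * d, by rw [map_mul, hc, hd, smul_mul_smul_comm, one_mul]⟩
  inv_mem' := by
    rintro a ⟨c, hc⟩
    refine ⟨c⁻¹, ?_⟩
    have h : c • ρ a⁻¹ = 1 := by
      have := map_mul ρ a a⁻¹
      rw [mul_inv_cancel, map_one, hc, smul_mul_assoc, one_mul] at this
      exact this.symm
    by_cases hc0 : c = 0
    · rw [hc0, zero_smul] at h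
      rw [hc0, inv_zero, zero_smul, ← mul_one (ρ a⁻¹), ← h, mul_zero]
    · rw [← h, inv_smul_smul₀ hc0]

theorem mem_scalars {g : G} : g ∈ scalars ρ ↔ ∃ c : K, ρ g = c • 1 := Iff.rfl

variable {ρ}

theorem scalars_central (hinj : Function.Injective ρ) : scalars ρ ≤ Subgroup.center G := by
  intro z hz
  obtain ⟨c, hc⟩ := hz
  refine Subgroup.mem_center_iff.mpr fun g => hinj ?_
  rw [map_mul, map_mul, hc, mul_smul_comm, smul_mul_assoc, one_mul, mul_one]

variable [CharP K p]

theorem not_dvd_scalars (hinj : Function.Injective ρ) : ¬ p ∣ Nat.card (scalars ρ) := by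
  intro h
  obtain ⟨⟨z, c, hc⟩, hz⟩ := exists_prime_orderOf_dvd_card' p h
  have hz' : z ^ p = 1 := by
    have := congrArg Subtype.val (pow_orderOf_eq_one (⟨z, c, hc⟩ : scalars ρ))
    simpa [hz] using this
  have h1 : (c ^ p) • (1 : Module.End K V) = 1 := by
    have := congrArg ρ hz'
    rwa [map_pow, map_one, hc, smul_pow, one_pow] at this
  have h2 : (c ^ p - 1) • (1 : Module.End K V) = 0 := by rw [sub_smul, h1, one_smul, sub_self]
  have h3 : ρ z = 1 := by
    rcases smul_eq_zero.mp h2 with h4 | h4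
    · have : c = 1 := frobenius_inj K p (by simpa [frobenius_def] using sub_eq_zero.mp h4)
      rw [hc, this, one_smul]
    · rw [← mul_one (ρ z), h4, mul_zero]
  have h5 : z = 1 := hinj (h3.trans (map_one ρ).symm)
  have : orderOf (⟨z, c, hc⟩ : scalars ρ) = 1 := orderOf_eq_one_iff.mpr (Subtype.ext h5)
  rw [hz] at this
  exact (Fact.out : p.Prime).ne_one this

variable (p ρ) in
/-- Abelian `p'`-subgroups containing the scalars. -/
def IsGood (B : Subgroup G) : Prop :=
  scalars ρ ≤ B ∧ (∀ a ∈ B, ∀ b ∈ B, a * b = b * a) ∧ ¬ p ∣ Nat.card B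

variable [IsAlgClosed K] [FiniteDimensional K V]

/-- A basis of common eigenvectors. -/
theorem exists_eigenbasis {B : Subgroup G} (hB : IsGood p ρ B) :
    ∃ (b : Basis (Fin (finrank K V)) K V) (χ : Fin (finrank K V) → G → K),
      ∀ x ∈ B, ∀ i, ρ x (b i) = χ i x • b i := by
  classical
  have hne : (Nat.card B : K) ≠ 0 := by
    rw [Ne, CharP.cast_eq_zero_iff K p]; exact hB.2.2
  have hspan := Cfsg.Agent.Grp.CyclicShift.mem_span_eigen ρ B hne ⊤ (fun _ _ _ _ => trivial)
    (fun a ha b hb v _ => by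
      rw [← Module.End.mul_apply, ← map_mul, hB.2.1 a ha b hb, map_mul, Module.End.mul_apply])
  obtain ⟨s, hs, hspan', hli⟩ :=
    exists_linearIndependent K {w : V | w ∈ (⊤ : Submodule K V) ∧ ∀ a ∈ B, ∃ c : K, ρ a w = c • w}
  let b0 := Basis.mk hli (by rw [Subtype.range_coe, hspan']; exact hspan)
  let e := b0.indexEquiv (Module.finBasis K V)
  have he : ∀ i, ∀ x ∈ B, ∃ c : K, ρ x ((b0.reindex e) i) = c • (b0.reindex e) i := by
    intro i x hx
    rw [Basis.reindex_apply, Basis.mk_apply]
    exact (hs (e.symm i).2).2 x hx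
  choose c hc using he
  refine ⟨b0.reindex e, fun i x => if h : x ∈ B then c i x h else 0, fun x hx i => ?_⟩
  simp only [dif_pos hx]
  exact hc i x hx

theorem good_ker {B : Subgroup G} (hinj : Function.Injective ρ) (hB : IsGood p ρ B) {e : ℕ}
    (he : 0 < e) : Nat.card {x : B // x ^ e = 1} ≤ e ^ finrank K V := by
  classical
  obtain ⟨b, χ, hχ⟩ := exists_eigenbasis hB
  let R := (Polynomial.nthRoots e (1 : K)).toFinset
  have hR : R.card ≤ e := (Multiset.toFinset_card_le _).trans (Polynomial.card_nthRoots _ _)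
  have hpow : ∀ x ∈ B, ∀ i (k : ℕ), ρ (x ^ k) (b i) = χ i x ^ k • b i := by
    intro x hx i k
    induction k with
    | zero => simp
    | succ k ih =>
      rw [pow_succ, map_mul, Module.End.mul_apply, hχ x hx, map_smul, ih, smul_smul, pow_succ']
  have hmem : ∀ (x : {x : B // x ^ e = 1}) i, χ i (x : B) ∈ R := by
    intro x i
    rw [Multiset.mem_toFinset, Polynomial.mem_nthRoots he]
    have hx : ((x : B) : G) ^ e = 1 := by rw [← Subgroup.coe_pow, x.2, Subgroup.coe_one]
    have := hpow _ (x : B).2 i e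
    rw [hx, map_one, Module.End.one_apply] at this
    exact smul_left_injective K (b.ne_zero i)
      (show χ i (x : B) ^ e • b i = (1 : K) • b i by rw [one_smul, ← this])
  calc Nat.card {x : B // x ^ e = 1} ≤ Nat.card (Fin (finrank K V) → R) := by
        refine Nat.card_le_card_of_injective (fun x i => (⟨χ i (x : B), hmem x i⟩ : R)) fun x y h => ?_
        refine Subtype.ext (Subtype.ext (hinj (b.ext fun i => ?_)))
        rw [hχ _ (x : B).2, hχ _ (y : B).2]
        have := congrFun h i
        simp only [Subtype.mk.injEq] at this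
        rw [this]
    _ = R.card ^ finrank K V := by simp
    _ ≤ e ^ finrank K V := Nat.pow_le_pow_left hR _

theorem good_norm {B : Subgroup G} (hinj : Function.Injective ρ) (hB : IsGood p ρ B) :
    Nat.card (Subgroup.normalizer (B : Set G)) ≤
      finrank K V ^ finrank K V * Nat.card (Subgroup.centralizer (B : Set G)) := by
  classical
  obtain ⟨b, χ, hχ⟩ := exists_eigenbasis hB
  have hmv : ∀ g ∈ Subgroup.normalizer (B : Set G), ∀ i, ∃ j, ∀ t ∈ B, χ j t = χ i (g * t * g⁻¹) := by
    intro g hg i
    have hw : ρ g⁻¹ (b i) ≠ 0 := by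
      intro h
      have := congrArg (ρ g) h
      rw [← Module.End.mul_apply, ← map_mul, mul_inv_cancel, map_one, Module.End.one_apply, map_zero] at this
      exact b.ne_zero i this
    obtain ⟨j, hj⟩ : ∃ j, b.repr (ρ g⁻¹ (b i)) j ≠ 0 := by
      by_contra hh
      push Not at hh
      exact hw (b.repr.injective (by rw [map_zero]; exact Finsupp.ext hh))
    refine ⟨j, fun t ht => ?_⟩
    have hgt : g * t * g⁻¹ ∈ B := (Subgroup.mem_normalizer_iff.mp hg t).mp ht
    have h1 : ρ t (ρ g⁻¹ (b i)) = χ i (g * t * g⁻¹) • ρ g⁻¹ (b i) := by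
      rw [← map_smul, ← hχ _ hgt, ← Module.End.mul_apply, ← map_mul, ← Module.End.mul_apply, ← map_mul]
      congr 2
      group
    have h2 : ∀ v : V, b.repr (ρ t v) j = χ j t * b.repr v j := by
      intro v
      conv_lhs => rw [← b.sum_repr v]
      simp only [map_sum, map_smul, hχ t ht, Basis.repr_self, Finsupp.smul_single, smul_eq_mul,
        mul_one, Finsupp.finset_sum_apply, Finsupp.single_apply]
      simp [mul_comm]
    have h3 := congrArg (fun v => b.repr v j) h1
    simp only [h2, map_smul, Finsupp.smul_apply, smul_eq_mul] at h3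
    exact mul_right_cancel₀ hj h3
  choose σ hσ using hmv
  have h := card_le_of_fibers (Subgroup.normalizer (B : Set G) : Set G)
    (fun g i => σ g g.2 i) (Subgroup.centralizer (B : Set G)) fun x y hxy => by
    rw [Subgroup.mem_centralizer_iff]
    intro t ht
    have hxt : (x : G) * t * (x : G)⁻¹ ∈ B := (Subgroup.mem_normalizer_iff.mp x.2 t).mp ht
    have hyt : (y : G) * t * (y : G)⁻¹ ∈ B := (Subgroup.mem_normalizer_iff.mp y.2 t).mp ht
    have e : (x : G) * t * (x : G)⁻¹ = (y : G) * t * (y : G)⁻¹ := by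
      refine hinj (b.ext fun i => ?_)
      rw [hχ _ hxt, hχ _ hyt, ← hσ _ x.2 i t ht, ← hσ _ y.2 i t ht]
      have h5 := congrFun hxy i
      rw [show σ _ x.2 i = σ _ y.2 i from h5]
    have h6 := congrArg (fun u => (y : G)⁻¹ * u * x) e
    simp only [mul_assoc, inv_mul_cancel_left, inv_mul_cancel, mul_one] at h6
    rw [← h6, mul_assoc]
  refine le_trans h (le_of_eq ?_)
  simp

theorem preimage_le (hinj : Function.Injective ρ) {g : G} (hg : g ∉ scalars ρ) :
    Nat.card {h : G // ∃ z ∈ scalars ρ, h * g = g * h * z} ≤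
      finrank K V * Nat.card (Subgroup.centralizer ({g} : Set G)) := by
  classical
  rcases Nat.eq_zero_or_pos (finrank K V) with hn | hn
  · exfalso
    have := Module.finrank_zero_iff.mp hn
    exact hg ⟨1, LinearMap.ext fun v => Subsingleton.elim _ _⟩
  let R := (Polynomial.nthRoots (finrank K V) (1 : K)).toFinset
  have hval : ∀ h : {h : G // ∃ z ∈ scalars ρ, h * g = g * h * z}, ∃ c ∈ R,
      ρ ((h : G) * g) = c • ρ (g * h) := by
    rintro ⟨h, z, ⟨c, hc⟩, he⟩
    refine ⟨c, ?_, ?_⟩
    · rw [Multiset.mem_toFinset, Polynomial.mem_nthRoots hn]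
      have h1 := congrArg (fun u => LinearMap.det (ρ u)) he
      simp only [map_mul, hc, LinearMap.det_smul, map_one, mul_one] at h1
      rw [mul_comm (LinearMap.det (ρ h))] at h1
      have hu : LinearMap.det (ρ g) * LinearMap.det (ρ h) ≠ 0 := by
        intro h0
        have h2 := congrArg (fun u => LinearMap.det (ρ u)) (mul_inv_cancel (g * h))
        simp only [map_mul, map_one, h0, zero_mul] at h2
        exact zero_ne_one h2
      exact mul_left_cancel₀ hu (by rw [mul_one]; exact h1.symm)
    · simp only at he ⊢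
      rw [he, map_mul, hc, mul_smul_comm, mul_one]
  choose c hcR hc using hval
  have h := card_le_of_fibers {h : G | ∃ z ∈ scalars ρ, h * g = g * h * z}
    (fun h => (⟨c h, hcR h⟩ : R)) (Subgroup.centralizer {g}) fun x y hxy => by
    rw [Subgroup.mem_centralizer_singleton_iff]
    have h1 : c x = c y := congrArg Subtype.val hxy
    have h2 : (x : G) * g * (x : G)⁻¹ = (y : G) * g * (y : G)⁻¹ := by
      refine hinj ?_
      rw [map_mul, map_mul ρ ((y : G) * g), hc x, hc y, h1, smul_mul_assoc, smul_mul_assoc,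
        ← map_mul, ← map_mul, mul_inv_cancel_right, mul_inv_cancel_right]
    have h3 := congrArg (fun u => (y : G)⁻¹ * u * x) h2
    simp only [mul_assoc, inv_mul_cancel_left, inv_mul_cancel, mul_one] at h3
    rw [mul_assoc]
    exact h3
  refine le_trans h (Nat.mul_le_mul_right _ ?_)
  rw [Nat.card_eq_finsetCard]
  exact (Multiset.toFinset_card_le _).trans (Polynomial.card_nthRoots _ _)

theorem good_sup (hinj : Function.Injective ρ) {A : Subgroup G}
    (hcomm : ∀ a ∈ A, ∀ b ∈ A, a * b = b * a) (hA : ¬ p ∣ Nat.card A) :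
    IsGood p ρ (A ⊔ scalars ρ) := by
  have hn : (scalars ρ).Normal := by
    refine ⟨fun z hz g => ?_⟩
    rw [Subgroup.mem_center_iff.mp (scalars_central hinj hz) g, mul_inv_cancel_right]
    exact hz
  have hdec : ∀ x ∈ A ⊔ scalars ρ, ∃ a ∈ A, ∃ z ∈ scalars ρ, a * z = x := fun x hx =>
    Subgroup.mem_sup_of_normal_right.mp hx
  have hz : ∀ z ∈ scalars ρ, ∀ g : G, g * z = z * g := fun z hz g =>
    Subgroup.mem_center_iff.mp (scalars_central hinj hz) g
  refine ⟨le_sup_right, fun x hx y hy => ?_, fun h => ?_⟩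
  · obtain ⟨a, ha, z, hz1, rfl⟩ := hdec x hx
    obtain ⟨b, hb, w, hw, rfl⟩ := hdec y hy
    calc a * z * (b * w) = (a * b) * (z * w) := by
          rw [mul_assoc a z, ← mul_assoc z b w, ← hz z hz1 b, mul_assoc b z w, mul_assoc]
      _ = (b * a) * (w * z) := by rw [hcomm a ha b hb, hz w hw z]
      _ = b * w * (a * z) := by
          rw [mul_assoc b w, ← mul_assoc w a z, ← hz w hw a, mul_assoc a w z, mul_assoc]
  · obtain ⟨⟨x, hx⟩, ho⟩ := exists_prime_orderOf_dvd_card' p h
    obtain ⟨a, ha, z, hz1, rfl⟩ := hdec x hx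
    rw [← orderOf_injective _ (Subgroup.subtype_injective _), Subgroup.coe_subtype] at ho
    change orderOf (a * z) = p at ho
    have hcop : ∀ {B : Subgroup G}, ¬ p ∣ Nat.card B → ∀ b ∈ B, Nat.Coprime p (orderOf b) := by
      intro B hB b hb
      refine ((Fact.out : p.Prime).coprime_iff_not_dvd.mpr fun hd => hB (hd.trans ?_))
      rw [← Subgroup.orderOf_mk b hb]
      exact orderOf_dvd_natCard _
    have hc : Commute a z := hz z hz1 a
    have h1 : p ∣ Nat.lcm (orderOf a) (orderOf z) := ho ▸ hc.orderOf_mul_dvd_lcm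
    have h2 : p ∣ orderOf a * orderOf z := h1.trans (Nat.lcm_dvd_mul _ _)
    rcases (Fact.out : p.Prime).dvd_mul.mp h2 with h3 | h3
    · exact (Fact.out : p.Prime).coprime_iff_not_dvd.mp (hcop hA a ha) h3
    · exact (Fact.out : p.Prime).coprime_iff_not_dvd.mp (hcop (not_dvd_scalars hinj) z hz1) h3

/-- Jordan's step: bounded abelian subgroups in all centralizers give a global one. -/
theorem exists_abelian_normal_of_centralizers (hinj : Function.Injective ρ) {J : ℕ} (hJ : 1 ≤ J)
    (hred : ∀ g ∉ scalars ρ, ∃ A : Subgroup G, A ≤ Subgroup.centralizer {g} ∧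
      (∀ a ∈ A, ∀ b ∈ A, a * b = b * a) ∧ ¬ p ∣ Nat.card A ∧
      Nat.card (Subgroup.centralizer ({g} : Set G)) ≤ J * Nat.card A) :
    ∃ A : Subgroup G, A.Normal ∧ (∀ a ∈ A, ∀ b ∈ A, a * b = b * a) ∧
      A.index ≤ jordanBound J (finrank K V) :=
  Setup.exists_abelian_normal
    { Z := scalars ρ
      Good := IsGood p ρ
      J := J
      n := finrank K V
      Jpos := hJ
      central := scalars_central hinj
      good_le := fun _ h => h.1
      good_comm := fun _ h => h.2.1
      good_mono := fun B B' h h1 h2 => ⟨h1, fun a ha b hb => h.2.1 a (h2 ha) b (h2 hb),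
        fun hd => h.2.2 (hd.trans (Subgroup.card_dvd_of_le h2))⟩
      good_conj := fun B h g => by
        refine ⟨fun z hz => ?_, ?_, ?_⟩
        · rw [Subgroup.mem_pointwise_smul_iff_inv_smul_mem, ConjAct.smul_def, ConjAct.ofConjAct_inv,
            inv_inv, Subgroup.mem_center_iff.mp (scalars_central hinj hz), mul_assoc,
            inv_mul_cancel, mul_one]
          exact h.1 hz
        · intro a ha b hb
          rw [Subgroup.mem_pointwise_smul_iff_inv_smul_mem] at ha hb
          have := congrArg (g • ·) (h.2.1 _ ha _ hb)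
          simpa using this
        · rw [← Nat.card_congr (Subgroup.equivSMul g B).toEquiv]; exact h.2.2
      good_ker := fun _ h _ he => good_ker hinj h he
      good_norm := fun _ h => good_norm hinj h
      abelian_exists := fun g hg => by
        obtain ⟨A, hAc, hcomm, hp, hcard⟩ := hred g hg
        refine ⟨A ⊔ scalars ρ, good_sup hinj hcomm hp, sup_le hAc fun z hz => ?_, ?_⟩
        · exact Subgroup.mem_centralizer_singleton_iff.mpr
            (Subgroup.mem_center_iff.mp (scalars_central hinj hz) g).symm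
        · exact hcard.trans (Nat.mul_le_mul_left _ (Subgroup.card_le_of_le le_sup_left))
      preimage_le := fun _ hg => preimage_le hinj hg }

end

end Cfsg.Agent.Block.JordanModular
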