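import Mathlib

/-!
The reducible step of Jordan's theorem in characteristic `p` with bounded Sylow `p`-subgroups.
-/

set_option autoImplicit false

universe u v w

namespace Cfsg.Agent.Block.JordanModular

open Module

/-- Every group of degree at most `d` has an abelian normal `p'`-subgroup of index at most `J`. -/
def HasBound (p m d J : ℕ) : Prop :=
  ∀ (G : Type u) [Group G] [Finite G] (K : Type v) [Field K] [IsAlgClosed K] [CharP K p]
    (V : Type w) [AddCommGroup V] [Module K V] [FiniteDimensional K V] (ρ : G →* Module.End K V),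
    Function.Injective ρ → finrank K V ≤ d → ¬ p ^ (m + 1) ∣ Nat.card G →
    ∃ A : Subgroup G, A.Normal ∧ (∀ a ∈ A, ∀ b ∈ A, a * b = b * a) ∧ ¬ p ∣ Nat.card A ∧ A.index ≤ J

variable {p : ℕ} [Fact p.Prime] {m : ℕ}

theorem card_le_of_isPGroup {G H : Type*} [Group G] [Group H] [Finite H] (hG : ¬ p ^ (m + 1) ∣ Nat.card G)
    (hH : IsPGroup p H) (hd : Nat.card H ∣ Nat.card G) : Nat.card H ≤ p ^ m := by
  obtain ⟨k, hk⟩ := IsPGroup.iff_card.mp hH
  rw [hk] at hd ⊢
  refine Nat.pow_le_pow_right (Fact.out : p.Prime).pos (le_of_not_gt fun h => hG ?_)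
  exact (pow_dvd_pow p h).trans hd

/-- Passing to the `p'`-part of an abelian normal subgroup. -/
theorem exists_pPrime {G : Type*} [Group G] [Finite G] (hG : ¬ p ^ (m + 1) ∣ Nat.card G)
    (A : Subgroup G) [A.Normal] (hA : ∀ a ∈ A, ∀ b ∈ A, a * b = b * a) :
    ∃ A' : Subgroup G, A'.Normal ∧ (∀ a ∈ A', ∀ b ∈ A', a * b = b * a) ∧ ¬ p ∣ Nat.card A' ∧
      A'.index ≤ p ^ m * A.index := by
  let f : A →* G :=
    { toFun := fun x => ((x ^ p ^ m : A) : G)
      map_one' := by rw [one_pow]; rfl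
      map_mul' := fun x y => by
        rw [Commute.mul_pow (Subtype.ext (hA x x.2 y y.2)) _, Subgroup.coe_mul] }
  have hmem : ∀ x ∈ f.range, x ∈ A := by rintro _ ⟨a, rfl⟩; exact (a ^ p ^ m).2
  refine ⟨f.range, ⟨?_⟩, fun a ha b hb => hA a (hmem a ha) b (hmem b hb), ?_, ?_⟩
  · rintro _ ⟨a, rfl⟩ g
    refine ⟨⟨g * a * g⁻¹, Subgroup.Normal.conj_mem ‹A.Normal› a a.2 g⟩, ?_⟩
    show (_ : G) = g * ((a ^ p ^ m : A) : G) * g⁻¹
    rw [Subgroup.coe_pow, ← conj_pow]
    rfl
  · intro hd
    obtain ⟨⟨x, a, rfl⟩, ho⟩ := exists_prime_orderOf_dvd_card' p hd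
    rw [← orderOf_injective _ (Subgroup.subtype_injective _)] at ho
    change orderOf ((a ^ p ^ m : A) : G) = p at ho
    rw [Subgroup.coe_pow] at ho
    have h1 : (a : G) ^ p ^ (m + 1) = 1 := by
      rw [pow_succ, pow_mul]
      conv_lhs => arg 2; rw [← ho]
      exact pow_orderOf_eq_one _
    obtain ⟨k, hk, hk'⟩ := (Nat.dvd_prime_pow Fact.out).mp (orderOf_dvd_of_pow_eq_one h1)
    have hkm : k ≤ m := by
      by_contra hh
      exact hG ((pow_dvd_pow p (show m + 1 ≤ k by omega)).trans (hk' ▸ orderOf_dvd_natCard _))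
    have h2 : (a : G) ^ p ^ m = 1 := orderOf_dvd_iff_pow_eq_one.mp (hk' ▸ pow_dvd_pow p hkm)
    rw [h2, orderOf_one] at ho
    exact (Fact.out : p.Prime).ne_one ho.symm
  · have hker : Nat.card f.ker ≤ p ^ m := by
      refine card_le_of_isPGroup hG (fun x => ⟨m, ?_⟩)
        ((Subgroup.card_subgroup_dvd_card f.ker).trans (Subgroup.card_subgroup_dvd_card A))
      exact Subtype.ext (Subtype.ext (x.2 : ((x.1 ^ p ^ m : A) : G) = 1))
    have h1 : Nat.card A = Nat.card f.ker * Nat.card f.range := by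
      rw [← Subgroup.index_ker, Subgroup.card_mul_index]
    refine Nat.le_of_mul_le_mul_left ?_ (Nat.card_pos (α := f.range))
    rw [Subgroup.card_mul_index, ← A.card_mul_index, h1]
    calc Nat.card f.ker * Nat.card f.range * A.index ≤ p ^ m * Nat.card f.range * A.index :=
          Nat.mul_le_mul_right _ (Nat.mul_le_mul_right _ hker)
      _ = _ := by ring

/-- Elements fixing a subspace and its quotient have order dividing `p`. -/
theorem pow_char_eq_one {K V : Type*} [Field K] [CharP K p] [AddCommGroup V] [Module K V]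
    (W : Submodule K V) (T : Module.End K V) (h1 : ∀ w ∈ W, T w = w) (h2 : ∀ v, T v - v ∈ W) :
    T ^ p = 1 := by
  have h : ∀ (k : ℕ) v, (T ^ k) v = v + (k : K) • (T v - v) := by
    intro k
    induction k with
    | zero => simp
    | succ k ih =>
      intro v
      rw [pow_succ', Module.End.mul_apply, ih, map_add, map_smul, h1 _ (h2 v), Nat.cast_succ, add_smul,
        one_smul]
      abel
  refine LinearMap.ext fun v => ?_
  rw [h, CharP.cast_eq_zero, zero_smul, add_zero, Module.End.one_apply]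

/-- The reducible case. -/
theorem exists_abelian_of_invariant {d J : ℕ} (hIH : HasBound.{u, v, w} p m d J) {G : Type u} [Group G]
    [Finite G] {K : Type v} [Field K] [IsAlgClosed K] [CharP K p] {V : Type w} [AddCommGroup V]
    [Module K V] [FiniteDimensional K V] (ρ : G →* Module.End K V) (hinj : Function.Injective ρ)
    (hdim : finrank K V ≤ d + 1) (hG : ¬ p ^ (m + 1) ∣ Nat.card G) (W : Submodule K V) (hW0 : W ≠ ⊥)
    (hW1 : W ≠ ⊤) (hW : ∀ g, ∀ w ∈ W, ρ g w ∈ W) :
    ∃ A : Subgroup G, A.Normal ∧ (∀ a ∈ A, ∀ b ∈ A, a * b = b * a) ∧ ¬ p ∣ Nat.card A ∧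
      A.index ≤ p ^ m * (J * J * (p ^ m).factorial * p ^ m) := by
  classical
  let ρ1 : G →* Module.End K W :=
    { toFun := fun g => (ρ g).restrict (hW g)
      map_one' := LinearMap.ext fun x => Subtype.ext (by simp)
      map_mul' := fun a b => LinearMap.ext fun x => Subtype.ext (by simp) }
  let ρ2 : G →* Module.End K (V ⧸ W) :=
    { toFun := fun g => W.mapQ W (ρ g) (fun w hw => hW g w hw)
      map_one' := Submodule.linearMap_qext _ (LinearMap.ext fun x => by simp)
      map_mul' := fun a b => Submodule.linearMap_qext _ (LinearMap.ext fun x => by simp) }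
  have hd1 : finrank K W ≤ d := by
    have := Submodule.finrank_lt hW1
    omega
  have hd2 : finrank K (V ⧸ W) ≤ d := by
    have := W.finrank_quotient_add_finrank
    have := Submodule.one_le_finrank_iff.mpr hW0
    omega
  have step : ∀ (V' : Type w) [AddCommGroup V'] [Module K V'] [FiniteDimensional K V']
      (σ : G →* Module.End K V'), finrank K V' ≤ d →
      ∃ P : Subgroup G, P.Normal ∧ (∀ a ∈ P, ∀ b ∈ P, a * b * (b * a)⁻¹ ∈ σ.ker) ∧ P.index ≤ J := by
    intro V' _ _ _ σ hσ
    let σ' : G ⧸ σ.ker →* Module.End K V' := QuotientGroup.lift σ.ker σ le_rfl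
    have hσ' : Function.Injective σ' := by
      intro x y h
      obtain ⟨a, rfl⟩ := QuotientGroup.mk'_surjective _ x
      obtain ⟨b, rfl⟩ := QuotientGroup.mk'_surjective _ y
      change σ a = σ b at h
      refine QuotientGroup.eq.mpr ?_
      rw [MonoidHom.mem_ker, map_mul, ← h, ← map_mul, inv_mul_cancel, map_one]
    obtain ⟨A, hAn, hAc, -, hAi⟩ := hIH (G ⧸ σ.ker) K V' σ' hσ' hσ
      (fun h => hG (h.trans (Subgroup.card_quotient_dvd_card _)))
    refine ⟨A.comap (QuotientGroup.mk' σ.ker), hAn.comap _, fun a ha b hb => ?_, ?_⟩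
    · rw [← QuotientGroup.eq_one_iff]
      have := hAc _ ha _ hb
      simp only [QuotientGroup.mk'_apply] at this
      simp only [QuotientGroup.mk_mul, QuotientGroup.mk_inv]
      rw [this, mul_inv_cancel]
    · rw [Subgroup.index_comap_of_surjective _ (QuotientGroup.mk'_surjective _)]
      exact hAi
  obtain ⟨P1, hP1, hc1, hi1⟩ := step W ρ1 hd1
  obtain ⟨P2, hP2, hc2, hi2⟩ := step (V ⧸ W) ρ2 hd2
  let U := ρ1.ker ⊓ ρ2.ker
  have hUp : ∀ u ∈ U, u ^ p = 1 := by
    intro u hu
    obtain ⟨hu1, hu2⟩ := Subgroup.mem_inf.mp hu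
    rw [MonoidHom.mem_ker] at hu1 hu2
    refine hinj ?_
    rw [map_pow, map_one]
    refine pow_char_eq_one W _ (fun w hw => ?_) (fun v => ?_)
    · have := congrArg (fun T : Module.End K W => ((T ⟨w, hw⟩ : W) : V)) hu1
      simpa [ρ1] using this
    · have := congrArg (fun T : Module.End K (V ⧸ W) => T (Submodule.Quotient.mk v)) hu2
      exact (Submodule.Quotient.eq W).mp (by simpa [ρ2] using this)
  have hUn : U.Normal := Subgroup.normal_inf_normal ρ1.ker ρ2.ker
  have hUcard : Nat.card U ≤ p ^ m :=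
    card_le_of_isPGroup hG (fun u => ⟨1, Subtype.ext (by rw [pow_one]; exact hUp u u.2)⟩)
      (Subgroup.card_subgroup_dvd_card U)
  have hCn : (Subgroup.centralizer (U : Set G)).Normal := inferInstance
  have hCi : (Subgroup.centralizer (U : Set G)).index ≤ (p ^ m).factorial := by
    have _ := Fintype.ofFinite U
    let θ : G →* Equiv.Perm U :=
      { toFun := fun g => (MulAut.conjNormal g).toEquiv
        map_one' := by ext; simp
        map_mul' := fun a b => by ext; simp [mul_assoc] }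
    have hker : θ.ker ≤ Subgroup.centralizer (U : Set G) := by
      intro g hg
      rw [Subgroup.mem_centralizer_iff]
      intro u hu
      have := congrArg (fun e : Equiv.Perm U => ((e ⟨u, hu⟩ : U) : G)) (MonoidHom.mem_ker.mp hg)
      simp only [θ, MonoidHom.coe_mk, OneHom.coe_mk, Equiv.Perm.coe_one, id_eq] at this
      change ((MulAut.conjNormal g ⟨u, hu⟩ : U) : G) = u at this
      rw [MulAut.conjNormal_apply] at this
      exact (mul_inv_eq_iff_eq_mul.mp this).symm
    refine (Nat.le_of_dvd (Nat.pos_of_ne_zero Subgroup.FiniteIndex.index_ne_zero)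
      (Subgroup.index_dvd_of_le hker)).trans ?_
    rw [Subgroup.index_ker]
    refine (Nat.le_of_dvd Nat.card_pos θ.range.card_subgroup_dvd_card).trans ?_
    rw [Nat.card_perm]
    exact Nat.factorial_le hUcard
  let P := P1 ⊓ P2 ⊓ Subgroup.centralizer (U : Set G)
  have hPn : P.Normal := inferInstanceAs (P1 ⊓ P2 ⊓ _ : Subgroup G).Normal
  have hPi : P.index ≤ J * J * (p ^ m).factorial :=
    Subgroup.index_inf_le.trans (Nat.mul_le_mul (Subgroup.index_inf_le.trans (Nat.mul_le_mul hi1 hi2)) hCi)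
  let Z := P ⊓ Subgroup.centralizer (P : Set G)
  have hZn : Z.Normal := inferInstanceAs (P ⊓ _ : Subgroup G).Normal
  have hZc : ∀ a ∈ Z, ∀ b ∈ Z, a * b = b * a := fun a ha b hb =>
    ((Subgroup.mem_centralizer_iff.mp (Subgroup.mem_inf.mp ha).2) b (Subgroup.mem_inf.mp hb).1).symm
  have hpow : ∀ a ∈ P, a ^ p ∈ Z := by
    intro a ha
    refine Subgroup.mem_inf.mpr ⟨pow_mem ha p, Subgroup.mem_centralizer_iff.mpr fun b hb => ?_⟩
    obtain ⟨ha12, haU⟩ := Subgroup.mem_inf.mp ha
    obtain ⟨hb12, hbU⟩ := Subgroup.mem_inf.mp hb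
    have hu : a * b * (b * a)⁻¹ ∈ U := Subgroup.mem_inf.mpr
      ⟨hc1 a (Subgroup.mem_inf.mp ha12).1 b (Subgroup.mem_inf.mp hb12).1,
        hc2 a (Subgroup.mem_inf.mp ha12).2 b (Subgroup.mem_inf.mp hb12).2⟩
    obtain ⟨u, rfl⟩ : ∃ u, u = a * b * (b * a)⁻¹ := ⟨_, rfl⟩
    have hk : ∀ k : ℕ, a ^ k * b = (a * b * (b * a)⁻¹) ^ k * (b * a ^ k) := by
      intro k
      induction k with
      | zero => simp
      | succ k ih =>
        have hua : Commute a ((a * b * (b * a)⁻¹) ^ k) :=
          Commute.pow_right (Subgroup.mem_centralizer_iff.mp haU _ hu).symm _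
        rw [pow_succ' a, mul_assoc, ih, ← mul_assoc, hua.eq, mul_assoc]
        rw [pow_succ _ k, mul_assoc _ (a * b * (b * a)⁻¹)]
        congr 1
        group
    have := hk p
    rw [hUp _ hu, one_mul] at this
    exact this.symm
  have hrel : (Z.subgroupOf P).index ≤ p ^ m := by
    rw [Subgroup.index_eq_card]
    refine card_le_of_isPGroup hG (fun x => ⟨1, ?_⟩)
      ((Subgroup.card_quotient_dvd_card _).trans (Subgroup.card_subgroup_dvd_card P))
    obtain ⟨a, rfl⟩ := QuotientGroup.mk'_surjective _ x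
    rw [pow_one, ← map_pow, QuotientGroup.mk'_apply, QuotientGroup.eq_one_iff]
    exact hpow a a.2
  obtain ⟨A, hAn, hAc, hAp, hAi⟩ := exists_pPrime hG Z hZc
  refine ⟨A, hAn, hAc, hAp, hAi.trans (Nat.mul_le_mul_left _ ?_)⟩
  rw [← Subgroup.relIndex_mul_index (inf_le_left : Z ≤ P), mul_comm]
  exact Nat.mul_le_mul hPi hrel

end Cfsg.Agent.Block.JordanModular
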