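import Cfsg.Agent.Lib.Block.JordanModular.Linear
import Cfsg.Agent.Lib.Block.JordanModular.Reducible

/-!
Jordan's theorem in characteristic `p` for groups with bounded Sylow `p`-subgroups (Brauer–Feit).
-/

set_option autoImplicit false

universe u v w

namespace Cfsg.Agent.Block.JordanModular

open Module

/-- Brauer–Feit: in degree at most `d` there is an index bound. -/
theorem exists_bound (p : ℕ) [Fact p.Prime] (m : ℕ) :
    ∀ d, ∃ J, HasBound.{u, v, w} p m d J := by
  intro d
  induction d with
  | zero =>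
    refine ⟨1, fun G _ _ K _ _ _ V _ _ _ ρ hinj hd _ => ⟨⊥, inferInstance, ?_, ?_, ?_⟩⟩
    · intro a ha b hb
      rw [Subgroup.mem_bot.mp ha, Subgroup.mem_bot.mp hb]
    · simpa using (Fact.out : p.Prime).one_lt.ne'
    · have := Module.finrank_zero_iff.mp (Nat.le_zero.mp hd)
      have hsub : Subsingleton G :=
        ⟨fun a b => hinj (LinearMap.ext fun v => Subsingleton.elim _ _)⟩
      rw [Subgroup.index_bot, Nat.card_of_subsingleton (1 : G)]
  | succ d ih =>
    obtain ⟨J, hJ⟩ := ih
    let J1 := max 1 (p ^ m * (J * J * (p ^ m).factorial * p ^ m))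
    refine ⟨max J (p ^ m * jordanBound J1 (d + 1)),
      fun G _ _ K _ _ _ V _ _ _ ρ hinj hd hG => ?_⟩
    rcases Nat.lt_or_eq_of_le hd with hlt | heq
    · obtain ⟨A, h1, h2, h3, h4⟩ := hJ G K V ρ hinj (Nat.lt_succ_iff.mp hlt) hG
      exact ⟨A, h1, h2, h3, h4.trans (le_max_left _ _)⟩
    obtain ⟨A, hAn, hAc, hAi⟩ := exists_abelian_normal_of_centralizers (p := p) hinj
      (J := J1) (le_max_left _ _) (fun g hg => by
      have := Module.nontrivial_of_finrank_eq_succ heq
      obtain ⟨μ, hμ⟩ := Module.End.exists_eigenvalue (ρ g)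
      let C := Subgroup.centralizer ({g} : Set G)
      have hne : Module.End.eigenspace (ρ g) μ ≠ ⊤ := by
        intro h
        refine hg ⟨μ, LinearMap.ext fun v => ?_⟩
        exact Module.End.mem_eigenspace_iff.mp (h ▸ Submodule.mem_top (x := v))
      obtain ⟨A, -, hc, hp, hi⟩ := exists_abelian_of_invariant hJ (ρ.comp C.subtype)
        (hinj.comp Subtype.val_injective) heq.le
        (fun h => hG (h.trans (Subgroup.card_subgroup_dvd_card C))) _ hμ hne (fun c x hx => by
          rw [Module.End.mem_eigenspace_iff] at hx ⊢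
          rw [MonoidHom.comp_apply, Subgroup.coe_subtype, ← Module.End.mul_apply, ← map_mul,
            ← Subgroup.mem_centralizer_singleton_iff.mp c.2, map_mul, Module.End.mul_apply, hx,
            map_smul])
      refine ⟨A.map C.subtype, Subgroup.map_subtype_le A, ?_, ?_, ?_⟩
      · rintro _ ⟨a, ha, rfl⟩ _ ⟨b, hb, rfl⟩
        rw [← map_mul, ← map_mul, hc a ha b hb]
      · rwa [Subgroup.card_map_of_injective C.subtype_injective]
      · rw [Subgroup.card_map_of_injective C.subtype_injective]
        change Nat.card C ≤ _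
        rw [← A.index_mul_card]
        exact Nat.mul_le_mul_right _ (hi.trans (le_max_right _ _)))
    obtain ⟨A', h1, h2, h3, h4⟩ := exists_pPrime hG A hAc
    refine ⟨A', h1, h2, h3, h4.trans (le_trans ?_ (le_max_right _ _))⟩
    rw [heq] at hAi
    exact Nat.mul_le_mul_left _ hAi

end Cfsg.Agent.Block.JordanModular
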