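import Cfsg.Agent.Lib.Block.JordanModular.Count

/-!
Jordan's argument for groups in which centralizers of non-scalars are abelian up to bounded index:
the large abelian subgroups cluster around finitely many tori, one of which is normal.
-/

set_option autoImplicit false

namespace Cfsg.Agent.Block.JordanModular

open scoped Pointwise

/-- The group theoretic facts used by Jordan's argument. -/
structure Setup (G : Type*) [Group G] where
  /-- the scalars -/
  Z : Subgroup G
  /-- diagonalizable abelian subgroups containing the scalars -/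
  Good : Subgroup G → Prop
  /-- index bound inside centralizers -/
  J : ℕ
  /-- the degree -/
  n : ℕ
  Jpos : 1 ≤ J
  central : Z ≤ Subgroup.center G
  good_le : ∀ B, Good B → Z ≤ B
  good_comm : ∀ B, Good B → ∀ a ∈ B, ∀ b ∈ B, a * b = b * a
  good_mono : ∀ B B', Good B → Z ≤ B' → B' ≤ B → Good B'
  good_conj : ∀ B, Good B → ∀ g : ConjAct G, Good (g • B)
  good_ker : ∀ B, Good B → ∀ e, 0 < e → Nat.card {x : B // x ^ e = 1} ≤ e ^ n
  good_norm : ∀ B, Good B → Nat.card (Subgroup.normalizer (B : Set G)) ≤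
    n ^ n * Nat.card (Subgroup.centralizer (B : Set G))
  abelian_exists : ∀ g ∉ Z, ∃ A, Good A ∧ A ≤ Subgroup.centralizer {g} ∧
    Nat.card (Subgroup.centralizer ({g} : Set G)) ≤ J * Nat.card A
  preimage_le : ∀ g ∉ Z, Nat.card {h : G // ∃ z ∈ Z, h * g = g * h * z} ≤
    n * Nat.card (Subgroup.centralizer ({g} : Set G))

/-- The exponent killing the difference between two maximal abelian subgroups of one cluster. -/
def eC (J : ℕ) : ℕ := (J ^ 2).factorial

/-- The centralizer slack. -/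
def dC (J n : ℕ) : ℕ := n * (J ^ 3 * eC J ^ n)

/-- The Weyl group slack. -/
def wC (J n : ℕ) : ℕ := n ^ n * J * eC J ^ n

/-- The thresholds. -/
def lvl (J n : ℕ) : ℕ → ℕ
  | 0 => J ^ 3 + 1
  | i + 1 => (dC J n * lvl J n i + wC J n).factorial + lvl J n i + 1

/-- The final bound of the argument. -/
def jordanBound (J n : ℕ) : ℕ := lvl J n (2 * wC J n + 1) + wC J n

theorem lvl_mono (J n : ℕ) : Monotone (lvl J n) :=
  monotone_nat_of_le_succ fun i => by show lvl J n i ≤ _ + lvl J n i + 1; omega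

section

variable {G : Type*} [Group G] [Finite G]

/-- Two subgroups of a subgroup: `|A||B| ≤ |A ⊓ B||C|`. -/
theorem card_mul_card_le {A B C : Subgroup G} (hA : A ≤ C) (hB : B ≤ C) :
    Nat.card A * Nat.card B ≤ Nat.card (A ⊓ B : Subgroup G) * Nat.card C := by
  have h1 := Subgroup.relIndex_mul_relIndex (⊥ : Subgroup G) (A ⊓ B) A bot_le inf_le_left
  have h2 := Subgroup.relIndex_mul_relIndex (⊥ : Subgroup G) B C bot_le hB
  simp only [Subgroup.relIndex_bot_left] at h1 h2
  have h4 : (A ⊓ B).relIndex A ≤ B.relIndex C := by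
    rw [Subgroup.inf_relIndex_left]
    exact Subgroup.relIndex_le_of_le_right hA Subgroup.FiniteIndex.index_ne_zero
  calc Nat.card A * Nat.card B
      = Nat.card (A ⊓ B : Subgroup G) * (A ⊓ B).relIndex A * Nat.card B := by rw [h1]
    _ ≤ Nat.card (A ⊓ B : Subgroup G) * B.relIndex C * Nat.card B := by gcongr
    _ = Nat.card (A ⊓ B : Subgroup G) * Nat.card C := by rw [mul_assoc, mul_comm (B.relIndex C), h2]

/-- Restricting a bounded index subgroup. -/
theorem card_le_mul_inf {H A C : Subgroup G} {J : ℕ} (hH : H ≤ C) (hA : A ≤ C)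
    (h : Nat.card C ≤ J * Nat.card A) : Nat.card H ≤ J * Nat.card (H ⊓ A : Subgroup G) := by
  refine Nat.le_of_mul_le_mul_right ?_ (Nat.card_pos (α := A))
  calc Nat.card H * Nat.card A ≤ Nat.card (H ⊓ A : Subgroup G) * Nat.card C := card_mul_card_le hH hA
    _ ≤ Nat.card (H ⊓ A : Subgroup G) * (J * Nat.card A) := Nat.mul_le_mul_left _ h
    _ = J * Nat.card (H ⊓ A : Subgroup G) * Nat.card A := by ring

theorem exists_notMem {Z X : Subgroup G} (h : Nat.card Z < Nat.card X) : ∃ x ∈ X, x ∉ Z := by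
  by_contra hh
  push Not at hh
  exact absurd (Subgroup.card_le_of_le (H := X) (K := Z) hh) (not_le.mpr h)

end

namespace Setup

variable {G : Type*} [Group G] [Finite G] (s : Setup G)

/-- Adjacent clusters. -/
def Rel (B B' : Subgroup G) : Prop :=
  s.Good B ∧ s.Good B' ∧ s.J ^ 2 * Nat.card s.Z < Nat.card (B ⊓ B' : Subgroup G)

/-- The cluster relation. -/
def Conn : Subgroup G → Subgroup G → Prop := Relation.ReflTransGen s.Rel

/-- A largest member of a cluster. -/
def IsMax (B M : Subgroup G) : Prop :=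
  s.Conn B M ∧ ∀ B', s.Conn B B' → Nat.card B' ≤ Nat.card M

/-- The torus of a cluster. -/
def torOf (B : Subgroup G) : Subgroup G := sInf {M | s.IsMax B M}

/-- The tori above a threshold. -/
def IsTorus (K : ℕ) (T : Subgroup G) : Prop :=
  s.Good T ∧ s.torOf T = T ∧ K * Nat.card s.Z < Nat.card T

/-- The set attached to a torus. -/
def SSet (K : ℕ) (T : Subgroup G) : Set G :=
  {y | y ∉ s.Z ∧ K * Nat.card s.Z < Nat.card (T ⊓ Subgroup.centralizer {y} : Subgroup G)}

theorem comm_Z {z : G} (hz : z ∈ s.Z) (g : G) : g * z = z * g :=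
  Subgroup.mem_center_iff.mp (s.central hz) g

theorem rel_symm {B B' : Subgroup G} (h : s.Rel B B') : s.Rel B' B :=
  ⟨h.2.1, h.1, by rw [inf_comm]; exact h.2.2⟩

theorem conn_symm {B B' : Subgroup G} (h : s.Conn B B') : s.Conn B' B := by
  induction h with
  | refl => exact Relation.ReflTransGen.refl
  | tail _ hr ih => exact Relation.ReflTransGen.head (s.rel_symm hr) ih

theorem conn_good {B B' : Subgroup G} (hB : s.Good B) (h : s.Conn B B') : s.Good B' := by
  induction h with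
  | refl => exact hB
  | tail _ hr _ => exact hr.2.1

theorem exists_max (B : Subgroup G) : ∃ M, s.IsMax B M := by
  obtain ⟨M, hM, hmax⟩ := Set.exists_max_image {B' | s.Conn B B'} (fun B' => Nat.card B')
    (Set.toFinite _) ⟨B, Relation.ReflTransGen.refl⟩
  exact ⟨M, hM, hmax⟩

theorem isMax_congr {B B' M : Subgroup G} (h : s.Conn B B') (hM : s.IsMax B M) : s.IsMax B' M :=
  ⟨(s.conn_symm h).trans hM.1, fun B'' h'' => hM.2 B'' (h.trans h'')⟩

theorem torOf_congr {B B' : Subgroup G} (h : s.Conn B B') : s.torOf B = s.torOf B' := by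
  have e : {M | s.IsMax B M} = {M | s.IsMax B' M} :=
    Set.ext fun M => ⟨s.isMax_congr h, s.isMax_congr (s.conn_symm h)⟩
  simp only [torOf, e]

/-- Every member of a cluster lies close to a largest one. -/
theorem near_max {B M : Subgroup G} (hB : s.Good B) (hM : s.IsMax B M)
    (hbig : s.J ^ 3 * Nat.card s.Z < Nat.card M) {B' : Subgroup G} (h : s.Conn M B') :
    Nat.card B' ≤ s.J ^ 2 * Nat.card (B' ⊓ M : Subgroup G) := by
  induction h with
  | refl =>
    rw [inf_idem]
    exact Nat.le_mul_of_pos_left _ (pow_pos s.Jpos _)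
  | @tail C C' hC hr ih =>
    have h1 : Nat.card (C' ⊓ C : Subgroup G) * Nat.card (C ⊓ M : Subgroup G) ≤
        Nat.card ((C' ⊓ C) ⊓ (C ⊓ M) : Subgroup G) * Nat.card C :=
      card_mul_card_le inf_le_right inf_le_left
    have h2 : Nat.card s.Z < Nat.card ((C' ⊓ C) ⊓ (C ⊓ M) : Subgroup G) := by
      by_contra hh
      rw [not_lt] at hh
      have h3 : Nat.card (C' ⊓ C : Subgroup G) * Nat.card (C ⊓ M : Subgroup G) ≤
          Nat.card s.Z * s.J ^ 2 * Nat.card (C ⊓ M : Subgroup G) := by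
        calc _ ≤ Nat.card s.Z * Nat.card C := h1.trans (Nat.mul_le_mul_right _ hh)
          _ ≤ Nat.card s.Z * (s.J ^ 2 * Nat.card (C ⊓ M : Subgroup G)) := Nat.mul_le_mul_left _ ih
          _ = _ := by ring
      have h4 := Nat.le_of_mul_le_mul_right h3 Nat.card_pos
      have h5 := hr.2.2
      rw [inf_comm] at h5
      rw [mul_comm (Nat.card s.Z)] at h4
      omega
    obtain ⟨z, hz, hzZ⟩ := exists_notMem h2
    obtain ⟨hz1, hz2⟩ := Subgroup.mem_inf.mp hz
    obtain ⟨hzC', -⟩ := Subgroup.mem_inf.mp hz1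
    obtain ⟨-, hzM⟩ := Subgroup.mem_inf.mp hz2
    have hMgood : s.Good M := s.conn_good hB hM.1
    obtain ⟨A, hA, hAc, hcard⟩ := s.abelian_exists z hzZ
    have hC'c : C' ≤ Subgroup.centralizer {z} := fun x hx =>
      Subgroup.mem_centralizer_singleton_iff.mpr (s.good_comm C' hr.2.1 x hx z hzC')
    have hMc : M ≤ Subgroup.centralizer {z} := fun x hx =>
      Subgroup.mem_centralizer_singleton_iff.mpr (s.good_comm M hMgood x hx z hzM)
    have h6 : Nat.card M ≤ s.J * Nat.card (M ⊓ A : Subgroup G) := card_le_mul_inf hMc hAc hcard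
    have h7 : Nat.card C' ≤ s.J * Nat.card (C' ⊓ A : Subgroup G) := card_le_mul_inf hC'c hAc hcard
    have h8 : s.Rel M A := by
      refine ⟨hMgood, hA, Nat.lt_of_mul_lt_mul_left (a := s.J) ?_⟩
      calc s.J * (s.J ^ 2 * Nat.card s.Z) = s.J ^ 3 * Nat.card s.Z := by ring
        _ < Nat.card M := hbig
        _ ≤ _ := h6
    have h9 : Nat.card A ≤ Nat.card M := hM.2 A (hM.1.tail h8)
    have h10 : Nat.card (C' ⊓ A : Subgroup G) * Nat.card (A ⊓ M : Subgroup G) ≤
        Nat.card ((C' ⊓ A) ⊓ (A ⊓ M) : Subgroup G) * Nat.card A :=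
      card_mul_card_le inf_le_right inf_le_left
    have h11 : Nat.card ((C' ⊓ A) ⊓ (A ⊓ M) : Subgroup G) ≤ Nat.card (C' ⊓ M : Subgroup G) :=
      Subgroup.card_le_of_le (le_inf (inf_le_left.trans inf_le_left) (inf_le_right.trans inf_le_right))
    refine Nat.le_of_mul_le_mul_right ?_ (Nat.card_pos (α := (A ⊓ M : Subgroup G)))
    calc Nat.card C' * Nat.card (A ⊓ M : Subgroup G)
        ≤ s.J * (Nat.card (C' ⊓ A : Subgroup G) * Nat.card (A ⊓ M : Subgroup G)) := by
          rw [← mul_assoc]; exact Nat.mul_le_mul_right _ h7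
      _ ≤ s.J * (Nat.card (C' ⊓ M : Subgroup G) * Nat.card M) :=
          Nat.mul_le_mul_left _ (h10.trans (Nat.mul_le_mul h11 h9))
      _ ≤ s.J * (Nat.card (C' ⊓ M : Subgroup G) * (s.J * Nat.card (A ⊓ M : Subgroup G))) := by
          rw [inf_comm A M]; gcongr
      _ = s.J ^ 2 * Nat.card (C' ⊓ M : Subgroup G) * Nat.card (A ⊓ M : Subgroup G) := by ring

/-- Powers of a largest member lie in every other largest member. -/
theorem pow_mem_max {B M M' : Subgroup G} (hB : s.Good B) (hM : s.IsMax B M) (hM' : s.IsMax B M')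
    (hbig : s.J ^ 3 * Nat.card s.Z < Nat.card M') {x : G} (hx : x ∈ M) : x ^ eC s.J ∈ M' := by
  have h1 := s.near_max hB hM' hbig ((s.conn_symm hM'.1).trans hM.1)
  have h2 : (M ⊓ M').relIndex M ≤ s.J ^ 2 := by
    refine Nat.le_of_mul_le_mul_left ?_ (Nat.card_pos (α := (M ⊓ M' : Subgroup G)))
    have h3 := Subgroup.relIndex_mul_relIndex (⊥ : Subgroup G) (M ⊓ M') M bot_le inf_le_left
    simp only [Subgroup.relIndex_bot_left] at h3
    rw [h3, mul_comm]
    exact h1
  have h4 : (M ⊓ M').relIndex M ≠ 0 := Subgroup.FiniteIndex.index_ne_zero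
  exact ((Subgroup.mem_inf.mp (Subgroup.mem_inf.mp
    (Subgroup.pow_mem_of_relIndex_ne_zero_of_dvd h4 hx
      (n := eC s.J) fun m hm hm' => Nat.dvd_factorial hm (hm'.trans h2))).1).2)

theorem torOf_le {B M : Subgroup G} (hM : s.IsMax B M) : s.torOf B ≤ M := sInf_le hM

theorem torOf_good {B : Subgroup G} (hB : s.Good B) : s.Good (s.torOf B) := by
  obtain ⟨M, hM⟩ := s.exists_max B
  exact s.good_mono M _ (s.conn_good hB hM.1)
    (le_sInf fun M' hM' => s.good_le M' (s.conn_good hB hM'.1)) (s.torOf_le hM)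

/-- A largest member is only a bounded factor larger than its torus. -/
theorem max_le_torOf {B M : Subgroup G} (hB : s.Good B) (hM : s.IsMax B M)
    (hbig : s.J ^ 3 * Nat.card s.Z < Nat.card M) :
    Nat.card M ≤ eC s.J ^ s.n * Nat.card (s.torOf B) := by
  have hMg := s.conn_good hB hM.1
  let f : M →* M :=
    { toFun := fun x => x ^ eC s.J
      map_one' := one_pow _
      map_mul' := fun x y => Commute.mul_pow (Subtype.ext (s.good_comm M hMg x x.2 y y.2)) _ }
  have h1 : Nat.card M = Nat.card f.ker * Nat.card f.range := by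
    rw [← Subgroup.index_ker, Subgroup.card_mul_index]
  have h2 : Nat.card f.ker ≤ eC s.J ^ s.n := by
    refine le_trans (le_of_eq (Nat.card_congr (Equiv.subtypeEquivRight fun x => ?_)))
      (s.good_ker M hMg _ (Nat.factorial_pos _))
    rfl
  have h3 : Nat.card f.range ≤ Nat.card (s.torOf B) := by
    refine Nat.card_le_card_of_injective (fun x => ⟨((x : M) : G), ?_⟩) ?_
    · obtain ⟨y, hy⟩ := x.2
      rw [← hy]
      refine Subgroup.mem_sInf.mpr fun M' hM' => ?_
      exact s.pow_mem_max hB hM hM' (lt_of_lt_of_le hbig (hM'.2 M hM.1)) y.2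
    · intro x y hxy
      exact Subtype.ext (Subtype.ext (congrArg Subtype.val hxy :))
  rw [h1]
  exact Nat.mul_le_mul h2 h3

theorem conn_torOf {B : Subgroup G} (hB : s.Good B)
    (h : s.J ^ 2 * Nat.card s.Z < Nat.card (s.torOf B)) : s.Conn B (s.torOf B) := by
  obtain ⟨M, hM⟩ := s.exists_max B
  refine hM.1.tail ⟨s.conn_good hB hM.1, s.torOf_good hB, ?_⟩
  rwa [inf_eq_right.mpr (s.torOf_le hM)]

/-- Tori of one cluster agree. -/
theorem torus_eq {K : ℕ} {T T' : Subgroup G} (hT : s.IsTorus K T) (hT' : s.IsTorus K T')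
    (h : s.Conn T T') : T = T' := by rw [← hT.2.1, ← hT'.2.1, s.torOf_congr h]

theorem cube_le_lt {K : ℕ} (hK : s.J ^ 3 ≤ K) {X : Subgroup G} (h : K * Nat.card s.Z < Nat.card X) :
    s.J ^ 3 * Nat.card s.Z < Nat.card X :=
  lt_of_le_of_lt (Nat.mul_le_mul_right _ hK) h

theorem card_Z_lt {K : ℕ} (hK : s.J ^ 3 ≤ K) {X : Subgroup G} (h : K * Nat.card s.Z < Nat.card X) :
    Nat.card s.Z < Nat.card X :=
  lt_of_le_of_lt (Nat.le_mul_of_pos_left _ (pow_pos s.Jpos _)) (s.cube_le_lt hK h)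

theorem square_lt_of_cube_lt {a : ℕ} (h : s.J ^ 3 * Nat.card s.Z < s.J * a) :
    s.J ^ 2 * Nat.card s.Z < a := by
  refine Nat.lt_of_mul_lt_mul_left (a := s.J) ?_
  calc s.J * (s.J ^ 2 * Nat.card s.Z) = s.J ^ 3 * Nat.card s.Z := by ring
    _ < _ := h

/-- The normalizer of a torus is not much larger. -/
theorem torus_norm {K : ℕ} (hK : s.J ^ 3 ≤ K) {T : Subgroup G} (hT : s.IsTorus K T) :
    Nat.card (Subgroup.normalizer (T : Set G)) ≤ wC s.J s.n * Nat.card T := by
  obtain ⟨hTg, hTT, hTK⟩ := hT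
  obtain ⟨z, hzT, hzZ⟩ := exists_notMem (s.card_Z_lt hK hTK)
  obtain ⟨A, hA, hAc, hcard⟩ := s.abelian_exists z hzZ
  have hTc : T ≤ Subgroup.centralizer {z} := fun x hx =>
    Subgroup.mem_centralizer_singleton_iff.mpr (s.good_comm T hTg x hx z hzT)
  have hrel : s.Rel T A := ⟨hTg, hA,
    s.square_lt_of_cube_lt (lt_of_lt_of_le (s.cube_le_lt hK hTK) (card_le_mul_inf hTc hAc hcard))⟩
  obtain ⟨M, hM⟩ := s.exists_max T
  have hbig : s.J ^ 3 * Nat.card s.Z < Nat.card M :=
    lt_of_lt_of_le (s.cube_le_lt hK hTK) (hM.2 T Relation.ReflTransGen.refl)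
  have h1 : Nat.card A ≤ eC s.J ^ s.n * Nat.card T := by
    refine (hM.2 A (Relation.ReflTransGen.single hrel)).trans ?_
    have := s.max_le_torOf hTg hM hbig
    rwa [hTT] at this
  have h2 : Nat.card (Subgroup.centralizer (T : Set G)) ≤ Nat.card (Subgroup.centralizer ({z} : Set G)) :=
    Subgroup.card_le_of_le (Subgroup.centralizer_le (by simpa using hzT))
  calc Nat.card (Subgroup.normalizer (T : Set G))
      ≤ s.n ^ s.n * Nat.card (Subgroup.centralizer (T : Set G)) := s.good_norm T hTg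
    _ ≤ s.n ^ s.n * (s.J * (eC s.J ^ s.n * Nat.card T)) :=
        Nat.mul_le_mul_left _ ((h2.trans hcard).trans (Nat.mul_le_mul_left _ h1))
    _ = wC s.J s.n * Nat.card T := by rw [wC]; ring

/-- The sets of distinct tori are disjoint. -/
theorem sset_disjoint {K : ℕ} (hK : s.J ^ 3 ≤ K) {T T' : Subgroup G} (hT : s.IsTorus K T)
    (hT' : s.IsTorus K T') {y : G} (hy : y ∈ s.SSet K T) (hy' : y ∈ s.SSet K T') : T = T' := by
  obtain ⟨A, hA, hAc, hcard⟩ := s.abelian_exists y hy.1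
  have key : ∀ T, s.IsTorus K T → y ∈ s.SSet K T → s.Rel T A := by
    intro T hT hy
    refine ⟨hT.1, hA, s.square_lt_of_cube_lt (lt_of_lt_of_le (s.cube_le_lt hK hy.2) ?_)⟩
    exact (card_le_mul_inf (inf_le_right : T ⊓ Subgroup.centralizer {y} ≤ _) hAc hcard).trans
      (Nat.mul_le_mul_left _ (Subgroup.card_le_of_le (inf_le_inf_right A inf_le_left)))
  exact s.torus_eq hT hT'
    ((Relation.ReflTransGen.single (key T hT hy)).tail (s.rel_symm (key T' hT' hy')))

theorem centralizer_mul_Z {y z : G} (hz : z ∈ s.Z) :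
    Subgroup.centralizer ({y * z} : Set G) = Subgroup.centralizer {y} := by
  ext x
  simp only [Subgroup.mem_centralizer_singleton_iff]
  rw [← mul_assoc, mul_assoc y z x, ← s.comm_Z hz x, ← mul_assoc, mul_left_inj]

theorem mul_Z_mem_sset {K : ℕ} {T : Subgroup G} {y z : G} (hz : z ∈ s.Z) (hy : y ∈ s.SSet K T) :
    y * z ∈ s.SSet K T := by
  refine ⟨fun h => hy.1 ?_, by rw [s.centralizer_mul_Z hz]; exact hy.2⟩
  simpa [mul_assoc] using mul_mem h (inv_mem hz)

theorem mem_sset_of_mem {K : ℕ} {T : Subgroup G} (hT : s.IsTorus K T) {t : G} (ht : t ∈ T)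
    (htZ : t ∉ s.Z) : t ∈ s.SSet K T := by
  refine ⟨htZ, ?_⟩
  rw [inf_eq_left.mpr fun x hx =>
    Subgroup.mem_centralizer_singleton_iff.mpr (s.good_comm T hT.1 x hx t ht)]
  exact hT.2.2

theorem mul_mem_sset {K : ℕ} {T : Subgroup G} (hT : s.IsTorus K T) {y t : G} (ht : t ∈ T)
    (hy : y ∈ s.SSet K T) (hyt : y * t ∉ s.Z) : y * t ∈ s.SSet K T := by
  refine ⟨hyt, lt_of_lt_of_le hy.2 (Subgroup.card_le_of_le fun x hx => ?_)⟩
  obtain ⟨hxT, hxy⟩ := Subgroup.mem_inf.mp hx
  refine Subgroup.mem_inf.mpr ⟨hxT, Subgroup.mem_centralizer_singleton_iff.mpr ?_⟩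
  rw [← mul_assoc, Subgroup.mem_centralizer_singleton_iff.mp hxy, mul_assoc, s.good_comm T hT.1 x hxT t ht,
    mul_assoc]

/-- Outside the sets of the tori centralizers are small. -/
theorem centralizer_small {K : ℕ} (hK : s.J ^ 3 ≤ K) {y : G} (hyZ : y ∉ s.Z)
    (hy : ∀ T, s.IsTorus K T → y ∉ s.SSet K T) :
    Nat.card (Subgroup.centralizer ({y} : Set G)) ≤
      s.J ^ 3 * eC s.J ^ s.n * K * Nat.card s.Z := by
  obtain ⟨A, hA, hAc, hcard⟩ := s.abelian_exists y hyZ
  have hE : 0 < eC s.J ^ s.n := pow_pos (Nat.factorial_pos _) _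
  suffices h : Nat.card A ≤ s.J ^ 2 * eC s.J ^ s.n * K * Nat.card s.Z by
    refine hcard.trans ((Nat.mul_le_mul_left _ h).trans (le_of_eq ?_))
    ring
  have hK1 : 1 ≤ K := (Nat.one_le_pow _ _ s.Jpos).trans hK
  obtain ⟨M, hM⟩ := s.exists_max A
  rcases le_or_gt (Nat.card M) (s.J ^ 3 * Nat.card s.Z) with hsm | hbig
  · calc Nat.card A ≤ Nat.card M := hM.2 A Relation.ReflTransGen.refl
      _ ≤ 1 * K * Nat.card s.Z := by rw [one_mul]; exact hsm.trans (Nat.mul_le_mul_right _ hK)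
      _ ≤ s.J ^ 2 * eC s.J ^ s.n * K * Nat.card s.Z := by
          gcongr; exact Nat.mul_pos (pow_pos s.Jpos _) hE
  let T := s.torOf A
  have h1 := s.near_max hA hM hbig (s.conn_symm hM.1)
  have h2 := s.max_le_torOf hA hM hbig
  have h3 : Nat.card (A ⊓ M : Subgroup G) * Nat.card T ≤
      Nat.card (A ⊓ T : Subgroup G) * Nat.card M := by
    refine (card_mul_card_le inf_le_right (s.torOf_le hM)).trans (Nat.mul_le_mul_right _ ?_)
    exact Subgroup.card_le_of_le (inf_le_inf_right T inf_le_left)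
  have h4 : Nat.card (A ⊓ M : Subgroup G) ≤ eC s.J ^ s.n * Nat.card (A ⊓ T : Subgroup G) := by
    refine Nat.le_of_mul_le_mul_right (h3.trans ?_) (Nat.card_pos (α := T))
    calc _ ≤ Nat.card (A ⊓ T : Subgroup G) * (eC s.J ^ s.n * Nat.card T) := Nat.mul_le_mul_left _ h2
      _ = _ := by ring
  have h5 : Nat.card (A ⊓ T : Subgroup G) ≤ K * Nat.card s.Z := by
    rcases le_or_gt (Nat.card T) (K * Nat.card s.Z) with h | h
    · exact (Subgroup.card_le_of_le inf_le_right).trans h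
    have hTt : s.IsTorus K T := ⟨s.torOf_good hA, (s.torOf_congr (s.conn_torOf hA
      (lt_of_le_of_lt (Nat.mul_le_mul_right _ ((Nat.pow_le_pow_right s.Jpos (by norm_num)).trans hK))
        h))).symm, h⟩
    have h6 := hy T hTt
    have h7 : Nat.card (T ⊓ Subgroup.centralizer {y} : Subgroup G) ≤ K * Nat.card s.Z := by
      by_contra hh
      exact h6 ⟨hyZ, not_le.mp hh⟩
    refine le_trans (Subgroup.card_le_of_le ?_) h7
    exact le_inf inf_le_right (inf_le_left.trans hAc)
  calc Nat.card A ≤ s.J ^ 2 * (eC s.J ^ s.n * (K * Nat.card s.Z)) :=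
        h1.trans (Nat.mul_le_mul_left _ (h4.trans (Nat.mul_le_mul_left _ h5)))
    _ = _ := by ring

theorem smul_Z (g : ConjAct G) : g • s.Z = s.Z := by
  have : s.Z.Normal := ⟨fun z hz g => by rw [s.comm_Z hz g, mul_inv_cancel_right]; exact hz⟩
  exact Subgroup.Normal.conjAct this g

theorem smul_centralizer (g : ConjAct G) (y : G) :
    g • Subgroup.centralizer ({y} : Set G) = Subgroup.centralizer {g • y} := by
  ext x
  rw [Subgroup.mem_pointwise_smul_iff_inv_smul_mem, Subgroup.mem_centralizer_singleton_iff,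
    Subgroup.mem_centralizer_singleton_iff, ← smul_left_cancel_iff g, smul_mul', smul_mul',
    smul_inv_smul]

theorem rel_smul (g : ConjAct G) {B B' : Subgroup G} (h : s.Rel B B') : s.Rel (g • B) (g • B') := by
  refine ⟨s.good_conj B h.1 g, s.good_conj B' h.2.1 g, ?_⟩
  rw [← Subgroup.smul_inf, ← Nat.card_congr (Subgroup.equivSMul g _).toEquiv]
  exact h.2.2

theorem isMax_smul (g : ConjAct G) {B M : Subgroup G} (h : s.IsMax B M) :
    s.IsMax (g • B) (g • M) := by
  refine ⟨h.1.lift (fun X => g • X) fun _ _ => s.rel_smul g, fun B' hB' => ?_⟩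
  have h1 := h.2 (g⁻¹ • B') (by
    have := hB'.lift (fun X => g⁻¹ • X) (fun _ _ => s.rel_smul g⁻¹)
    simpa [Conn, Function.onFun] using this)
  rw [← Nat.card_congr (Subgroup.equivSMul g M).toEquiv]
  rwa [← Nat.card_congr (Subgroup.equivSMul g⁻¹ B').toEquiv] at h1

theorem torOf_smul (g : ConjAct G) (B : Subgroup G) : s.torOf (g • B) = g • s.torOf B := by
  have key : ∀ (g : ConjAct G) (B : Subgroup G), g • s.torOf B ≤ s.torOf (g • B) := by
    intro g B x hx
    rw [Subgroup.mem_pointwise_smul_iff_inv_smul_mem] at hx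
    refine Subgroup.mem_sInf.mpr fun M' hM' => ?_
    have h1 := Subgroup.mem_sInf.mp hx (g⁻¹ • M') (by simpa using s.isMax_smul g⁻¹ hM')
    rw [Subgroup.mem_pointwise_smul_iff_inv_smul_mem] at h1
    simpa using h1
  refine le_antisymm ?_ (key g B)
  have h1 := key g⁻¹ (g • B)
  rw [inv_smul_smul] at h1
  exact Subgroup.subset_pointwise_smul_iff.mpr h1

theorem torus_smul {K : ℕ} (g : ConjAct G) {T : Subgroup G} (hT : s.IsTorus K T) :
    s.IsTorus K (g • T) :=
  ⟨s.good_conj T hT.1 g, by rw [s.torOf_smul, hT.2.1],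
    by rw [← Nat.card_congr (Subgroup.equivSMul g T).toEquiv]; exact hT.2.2⟩

theorem sset_smul {K : ℕ} (g : ConjAct G) {T : Subgroup G} {y : G} (hy : y ∈ s.SSet K T) :
    g • y ∈ s.SSet K (g • T) := by
  refine ⟨fun h => hy.1 ?_, ?_⟩
  · rw [← s.smul_Z g] at h
    exact Subgroup.smul_mem_pointwise_smul_iff.mp h
  · rw [← smul_centralizer, ← Subgroup.smul_inf, ← Nat.card_congr (Subgroup.equivSMul g _).toEquiv]
    exact hy.2

/-- A normal abelian subgroup of bounded index. -/
theorem exists_abelian_normal : ∃ A : Subgroup G, A.Normal ∧ (∀ a ∈ A, ∀ b ∈ A, a * b = b * a) ∧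
    A.index ≤ jordanBound s.J s.n := by
  classical
  have hZn : s.Z.Normal := ⟨fun z hz g => by rw [s.comm_Z hz g, mul_inv_cancel_right]; exact hz⟩
  let π : G →* G ⧸ s.Z := QuotientGroup.mk' s.Z
  have hsurj : Function.Surjective π := QuotientGroup.mk'_surjective _
  have _ := Fintype.ofFinite (Subgroup (G ⧸ s.Z))
  have hπ : ∀ a b : G, π a = π b → ∃ z ∈ s.Z, b = a * z := fun a b h =>
    ⟨a⁻¹ * b, QuotientGroup.eq.mp h, by group⟩
  have hcomap : ∀ X : Subgroup (G ⧸ s.Z), Nat.card (X.comap π) = Nat.card s.Z * Nat.card X :=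
    fun X => QuotientGroup.card_preimage_mk s.Z (X : Set (G ⧸ s.Z))
  have hnorm : ∀ X : Subgroup (G ⧸ s.Z), Nat.card s.Z * Nat.card (Subgroup.normalizer (X : Set (G ⧸ s.Z))) =
      Nat.card (Subgroup.normalizer (X.comap π : Set G)) := fun X => by
    rw [← hcomap, Subgroup.comap_normalizer_eq_of_surjective X hsurj]
  have hsmulX : ∀ (g : G) (X : Subgroup (G ⧸ s.Z)),
      (ConjAct.toConjAct (π g) • X).comap π = ConjAct.toConjAct g • X.comap π := by
    intro g X
    ext x
    rw [Subgroup.mem_comap, Subgroup.mem_pointwise_smul_iff_inv_smul_mem,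
      Subgroup.mem_pointwise_smul_iff_inv_smul_mem, Subgroup.mem_comap]
    simp [ConjAct.smul_def]
  -- tori in the quotient
  let TQ : ℕ → Finset (Subgroup (G ⧸ s.Z)) := fun K =>
    Finset.univ.filter fun X => s.IsTorus K (X.comap π)
  have hTQ : ∀ K X, X ∈ TQ K ↔ s.IsTorus K (X.comap π) := by simp [TQ]
  let SQ : ℕ → Subgroup (G ⧸ s.Z) → Set (G ⧸ s.Z) := fun K X => π '' s.SSet K (X.comap π)
  have hSQ : ∀ K X a, π a ∈ SQ K X → a ∈ s.SSet K (X.comap π) := by
    rintro K X a ⟨b, hb, hba⟩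
    obtain ⟨z, hz, rfl⟩ := hπ b a hba
    exact s.mul_Z_mem_sset hz hb
  have hmemS : ∀ K, ∀ X ∈ TQ K, ∀ t ∈ X, t = 1 ∨ t ∈ SQ K X := by
    intro K X hX t ht
    obtain ⟨a, rfl⟩ := hsurj t
    by_cases haZ : a ∈ s.Z
    · exact Or.inl ((QuotientGroup.eq_one_iff a).mpr haZ)
    · exact Or.inr ⟨a, s.mem_sset_of_mem ((hTQ K X).mp hX) ht haZ, rfl⟩
  have hdisjQ : ∀ K, s.J ^ 3 ≤ K → ∀ X ∈ TQ K, ∀ X' ∈ TQ K, ∀ y, y ∈ SQ K X → y ∈ SQ K X' → X = X' := by
    intro K hK X hX X' hX' y hy hy'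
    obtain ⟨a, rfl⟩ := hsurj y
    exact Subgroup.comap_injective hsurj
      (s.sset_disjoint hK ((hTQ K X).mp hX) ((hTQ K X').mp hX') (hSQ K X a hy) (hSQ K X' a hy'))
  have hNW : ∀ K, s.J ^ 3 ≤ K → ∀ X ∈ TQ K,
      Nat.card (Subgroup.normalizer (X : Set (G ⧸ s.Z))) ≤ wC s.J s.n * Nat.card X := by
    intro K hK X hX
    refine Nat.le_of_mul_le_mul_left ?_ (Nat.card_pos (α := s.Z))
    rw [hnorm]
    refine (s.torus_norm hK ((hTQ K X).mp hX)).trans (le_of_eq ?_)
    rw [hcomap]; ring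
  have hsize : ∀ K, ∀ X ∈ TQ K, K < Nat.card X := fun K X hX => by
    have h := ((hTQ K X).mp hX).2.2
    rw [hcomap, mul_comm K] at h
    exact Nat.lt_of_mul_lt_mul_left h
  have hconjQ : ∀ K (g : ConjAct (G ⧸ s.Z)), ∀ X ∈ TQ K, g • X ∈ TQ K := by
    intro K g X hX
    obtain ⟨a, ha⟩ := hsurj (ConjAct.ofConjAct g)
    rw [← ConjAct.toConjAct_ofConjAct g, ← ha, hTQ, hsmulX]
    exact s.torus_smul _ ((hTQ K X).mp hX)
  -- choice of the level
  set W := wC s.J s.n with hW
  have hlvlJ : ∀ i, s.J ^ 3 < lvl s.J s.n i := fun i =>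
    lt_of_lt_of_le (Nat.lt_succ_self _) (lvl_mono s.J s.n (Nat.zero_le i))
  have hlevel : ∃ i ≤ 2 * W, ∀ X ∈ TQ (lvl s.J s.n i), lvl s.J s.n (i + 1) < Nat.card X := by
    by_contra hno
    push Not at hno
    choose X hX hXle using hno
    have hX0 : ∀ i (hi : i ≤ 2 * W), X i hi ∈ TQ (lvl s.J s.n 0) := by
      intro i hi
      rw [hTQ]
      obtain ⟨h1, h2, h3⟩ := (hTQ _ _).mp (hX i hi)
      exact ⟨h1, h2, lt_of_le_of_lt (Nat.mul_le_mul_right _ (lvl_mono s.J s.n (Nat.zero_le i))) h3⟩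
    have hK0 : s.J ^ 3 ≤ lvl s.J s.n 0 := (hlvlJ 0).le
    have hcount := card_orders_le (TQ (lvl s.J s.n 0)) W (hconjQ _)
      (fun X hX X' hX' y hy hyX hyX' => hdisjQ _ hK0 X hX X' hX' y
        ((hmemS _ X hX y hyX).resolve_left hy) ((hmemS _ X' hX' y hyX').resolve_left hy))
      (hNW _ hK0) (fun X hX => by have := hsize _ X hX; have := hlvlJ 0; omega)
    have h2 : Fintype.card (Fin (2 * W + 1)) ≤
        ((TQ (lvl s.J s.n 0)).image fun X : Subgroup (G ⧸ s.Z) => Nat.card X).card := by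
      rw [← Fintype.card_coe]
      refine Fintype.card_le_of_injective (fun i => ⟨Nat.card (X i (Nat.lt_succ_iff.mp i.2)),
        Finset.mem_image_of_mem _ (hX0 _ _)⟩) fun i j hij => ?_
      simp only [Subtype.mk.injEq] at hij
      by_contra hne
      rcases lt_or_gt_of_ne (fun h => hne (Fin.ext h)) with h | h
      · have h4 := hXle i (Nat.lt_succ_iff.mp i.2)
        have h5 := hsize _ _ (hX j (Nat.lt_succ_iff.mp j.2))
        have h6 := lvl_mono s.J s.n (show (i : ℕ) + 1 ≤ j from h)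
        omega
      · have h4 := hXle j (Nat.lt_succ_iff.mp j.2)
        have h5 := hsize _ _ (hX i (Nat.lt_succ_iff.mp i.2))
        have h6 := lvl_mono s.J s.n (show (j : ℕ) + 1 ≤ i from h)
        omega
    rw [Fintype.card_fin] at h2
    omega
  obtain ⟨i, hiW, hgap⟩ := hlevel
  set K := lvl s.J s.n i with hKdef
  have hK : s.J ^ 3 ≤ K := (hlvlJ i).le
  set L := (dC s.J s.n * K + W).factorial with hL
  have hLlt : L < lvl s.J s.n (i + 1) := by rw [lvl, ← hW, ← hKdef, ← hL]; omega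
  have hfin := small_or_normal (TQ K) (SQ K) L (Nat.factorial_pos _) (hconjQ K) ?_ ?_ (hmemS K) ?_
    (hdisjQ K hK) ?_ ?_ (fun X hX => hLlt.trans (hgap X hX))
  · rcases hfin with hsm | ⟨X, hX, hXn⟩
    · refine ⟨s.Z, hZn, fun a _ b hb => s.comm_Z hb a, ?_⟩
      rw [Subgroup.index_eq_card, jordanBound, ← hW]
      have := lvl_mono s.J s.n (show i + 1 ≤ 2 * W + 1 by omega)
      omega
    · obtain ⟨hXg, -, -⟩ := (hTQ K X).mp hX
      refine ⟨X.comap π, hXn.comap π, s.good_comm _ hXg, ?_⟩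
      have h1 := hNW K hK X hX
      rw [Subgroup.normalizer_eq_top_iff.mpr hXn, Subgroup.card_top, ← X.index_mul_card] at h1
      rw [Subgroup.index_comap_of_surjective X hsurj, jordanBound, ← hW]
      have := Nat.le_of_mul_le_mul_right h1 (Nat.card_pos (α := X))
      omega
  · -- equivariance
    intro g X y hy
    obtain ⟨a, ha⟩ := hsurj (ConjAct.ofConjAct g)
    obtain ⟨b, hb, rfl⟩ := hy
    rw [← ConjAct.toConjAct_ofConjAct g, ← ha]
    refine ⟨ConjAct.toConjAct a • b, ?_, by simp [ConjAct.smul_def]⟩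
    rw [hsmulX]
    exact s.sset_smul _ hb
  · rintro X hX ⟨a, ha, ha1⟩
    exact ha.1 ((QuotientGroup.eq_one_iff a).mp ha1)
  · -- cosets
    rintro X hX _ ⟨a, ha, rfl⟩ t ht
    obtain ⟨b, rfl⟩ := hsurj t
    rw [← map_mul]
    by_cases h : a * b ∈ s.Z
    · exact Or.inl ((QuotientGroup.eq_one_iff _).mpr h)
    · exact Or.inr ⟨a * b, s.mul_mem_sset ((hTQ K X).mp hX) ht ha h, rfl⟩
  · -- small centralizers
    intro y hy hyS
    obtain ⟨a, rfl⟩ := hsurj y
    have haZ : a ∉ s.Z := fun h => hy ((QuotientGroup.eq_one_iff a).mpr h)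
    have ha : ∀ T, s.IsTorus K T → a ∉ s.SSet K T := by
      intro T hT haT
      have e : (T.map π).comap π = T := Subgroup.comap_map_eq_self (by
        rw [QuotientGroup.ker_mk']; exact s.good_le T hT.1)
      exact hyS (T.map π) ((hTQ K _).mpr (by rwa [e])) ⟨a, by rwa [e], rfl⟩
    have h1 : Nat.card ((Subgroup.centralizer ({π a} : Set (G ⧸ s.Z))).comap π) ≤
        s.n * Nat.card (Subgroup.centralizer ({a} : Set G)) := by
      refine le_trans ?_ (s.preimage_le a haZ)
      refine Nat.card_le_card_of_injective (fun x => ⟨x.1, ?_⟩) fun x x' h =>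
        Subtype.ext (congrArg Subtype.val h :)
      have hx := Subgroup.mem_centralizer_singleton_iff.mp (Subgroup.mem_comap.mp x.2)
      rw [← map_mul, ← map_mul] at hx
      obtain ⟨z, hz, hzeq⟩ := hπ _ _ hx.symm
      exact ⟨z, hz, hzeq⟩
    rw [hcomap] at h1
    have h2 : Nat.card (Subgroup.centralizer ({π a} : Set (G ⧸ s.Z))) ≤ dC s.J s.n * K := by
      refine Nat.le_of_mul_le_mul_left (h1.trans ((Nat.mul_le_mul_left _
        (s.centralizer_small hK haZ ha)).trans (le_of_eq ?_))) (Nat.card_pos (α := s.Z))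
      rw [dC]; ring
    exact Nat.dvd_factorial Nat.card_pos (by omega)
  · -- normalizers
    intro X hX
    have hle : X ≤ Subgroup.normalizer (X : Set (G ⧸ s.Z)) := Subgroup.le_normalizer
    obtain ⟨k, hk⟩ := Subgroup.card_dvd_of_le hle
    rw [hk, mul_comm _ k]
    refine Nat.mul_dvd_mul_right (Nat.dvd_factorial ?_ ?_) _
    · rcases Nat.eq_zero_or_pos k with h | h
      · rw [h, mul_zero] at hk; exact absurd hk Nat.card_pos.ne'
      · exact h
    · have h1 := hNW K hK X hX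
      rw [hk, mul_comm W] at h1
      have := Nat.le_of_mul_le_mul_left h1 (Nat.card_pos (α := X))
      omega

end Setup

end Cfsg.Agent.Block.JordanModular
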